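import Cfsg.Agent.Lib.OddLocal.FrobeniusAmbient
import Cfsg.Agent.Lib.Coprime.Glauberman
import Cfsg.Agent.S0205

/-!
# A congruence for fixed points of a dihedral group acting coprimely

A `p`-group `P`, inverted by an involution `z`, acts on a group `R` of odd order prime to `p`; the
fixed points of the non-trivial elements of `P` are powers of a central element `r` of order three.
Then the order of the `l`-part of `C_R(z)` is congruent, up to sign, to the `l`-part of `3`
modulo `|P|`.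
-/

set_option autoImplicit false
set_option linter.style.haveILetI false
set_option linter.unusedSectionVars false

universe u

namespace Cfsg.Agent.Lib.JankoThompson.TorusBound

open Subgroup OddLocal
open scoped Pointwise

variable {G : Type u} [Group G] [Finite G]

/-- Free orbits. -/
theorem card_modEq_fixed {B : Type u} [Group B] [Finite B] {M : Type u} [Group M] [Finite M]
    (θ : B →* MulAut M) (Z : Subgroup M) (hZ : ∀ b, ∀ x ∈ Z, θ b x = x)
    (hfree : ∀ b, b ≠ 1 → ∀ x, θ b x = x → x ∈ Z) : Nat.card M ≡ Nat.card ↥Z [MOD Nat.card B] := by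
  classical
  haveI := Fintype.ofFinite M
  let X := {x : M // x ∉ Z}
  have hmem : ∀ (b : B) (x : M), x ∉ Z → θ b x ∉ Z := fun b x hx h => hx (by
    have h' := hZ b⁻¹ _ h
    rw [← MulAut.mul_apply, ← map_mul, inv_mul_cancel, map_one, MulAut.one_apply] at h'
    exact h'.symm ▸ h)
  letI act : MulAction B X :=
    { smul := fun b x => ⟨θ b x.1, hmem b x.1 x.2⟩
      one_smul := fun x => Subtype.ext (show θ 1 x.1 = x.1 by rw [map_one, MulAut.one_apply])
      mul_smul := fun a b x => Subtype.ext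
        (show θ (a * b) x.1 = θ a (θ b x.1) by rw [map_mul, MulAut.mul_apply]) }
  have hst : ∀ x : X, MulAction.stabilizer B x = ⊥ := fun x => by
    rw [eq_bot_iff]
    intro b hb
    by_contra h
    exact x.2 (hfree b h x.1 (congrArg Subtype.val (MulAction.mem_stabilizer_iff.1 hb)))
  have hdvd : Nat.card B ∣ Nat.card X := by
    rw [Nat.card_congr (MulAction.selfEquivOrbitsQuotientProd hst), Nat.card_prod]
    exact dvd_mul_left _ _
  have hsum : Nat.card M = Nat.card ↥Z + Nat.card X := by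
    rw [← Nat.card_sum]
    exact Nat.card_congr (Equiv.sumCompl fun x => x ∈ Z).symm
  rw [hsum]
  obtain ⟨k, hk⟩ := hdvd
  rw [hk]
  exact (Nat.modEq_iff_dvd' (Nat.le_add_right _ _)).2 (by simp) |>.symm

/-- The congruence. -/
theorem sq_modEq {p l : ℕ} [Fact p.Prime] [Fact l.Prime] (P R : Subgroup G) {z r : G}
    (hP : IsPGroup p ↥P) (hP1 : P ≠ ⊥) (hp2 : p ≠ 2) (hz : orderOf z = 2)
    (hzP : ∀ a ∈ P, z * a * z⁻¹ = a⁻¹) (hzR : z ∈ normalizer (R : Set G))
    (hPR : P ≤ normalizer (R : Set G)) (hRodd : Odd (Nat.card ↥R)) (hRp : ¬ p ∣ Nat.card ↥R)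
    (hr : orderOf r = 3) (hrR : r ∈ R) (hrc : ∀ x ∈ R, Commute r x) (hrz : Commute r z)
    (hrP : ∀ a ∈ P, Commute r a)
    (hfix : ∀ a ∈ P, a ≠ 1 → ∀ x ∈ R, (∃ k, x ^ l ^ k = 1) → Commute x a → x ∈ zpowers r) :
    (l ^ (Nat.card ↥(R ⊓ centralizer ({z} : Set G))).factorization l) ^ 2 ≡
      (l ^ Nat.factorization 3 l) ^ 2 [MOD Nat.card ↥P] := by
  classical
  set Z2 := zpowers z with hZ2
  have hzz : z * z = 1 := by rw [← pow_two, ← hz, pow_orderOf_eq_one]
  obtain ⟨a, haP⟩ := IsPGroup.iff_card.1 hP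
  have hpodd : Odd p := (Fact.out : p.Prime).odd_of_ne_two hp2
  have hPodd : Odd (Nat.card ↥P) := haP ▸ hpodd.pow
  have hZ2c : Nat.card ↥Z2 = 2 := by rw [Nat.card_zpowers, hz]
  have hdis : P ⊓ Z2 = ⊥ :=
    inf_eq_bot_of_coprime (by rw [hZ2c]; exact Nat.coprime_two_right.2 hPodd)
  have hZP : Z2 ≤ normalizer (P : Set G) := zpowers_le.2 (mem_normalizer_fintype fun x hx => by
    rw [hzP x hx]; exact inv_mem hx)
  have hfrob : ∀ e ∈ Z2, e ≠ 1 → P ⊓ centralizer ({e} : Set G) = ⊥ := by
    intro e he he1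
    obtain ⟨k, rfl⟩ := mem_zpowers_iff.1 he
    have hk : z ^ k = z := by
      rcases Int.even_or_odd k with ⟨j, rfl⟩ | ⟨j, rfl⟩
      · exact absurd (by rw [← two_mul, zpow_mul, zpow_two, hzz, one_zpow]) he1
      · rw [zpow_add, zpow_one, zpow_mul, zpow_two, hzz, one_zpow, one_mul]
    rw [hk, eq_bot_iff]
    intro x hx
    have h1 := hzP x hx.1
    rw [← mem_centralizer_singleton_iff.1 hx.2, mul_inv_cancel_right] at h1
    have h2 : orderOf x ∣ 2 := orderOf_dvd_of_pow_eq_one (by
      rw [pow_two]; nth_rw 2 [h1]; exact mul_inv_cancel x)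
    rw [mem_bot, ← orderOf_eq_one_iff]
    exact Nat.eq_one_of_dvd_coprimes (Nat.coprime_two_right.2
      (hPodd.of_dvd_nat (Subgroup.orderOf_dvd_natCard _ hx.1))) dvd_rfl h2
  set B := P ⊔ Z2 with hB
  have hBR : B ≤ normalizer (R : Set G) := sup_le hPR (zpowers_le.2 hzR)
  have hBcard : Nat.card ↥B = Nat.card ↥P * 2 := by
    rw [← (FrobeniusAmbient.isComplement'_subgroupOf hdis hZP).card_mul_card,
      Nat.card_congr (subgroupOfEquivOfLe (le_sup_left : P ≤ P ⊔ Z2)).toEquiv,
      Nat.card_congr (subgroupOfEquivOfLe (le_sup_right : Z2 ≤ P ⊔ Z2)).toEquiv, hZ2c]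
  have hBcop : (Nat.card ↥B).Coprime (Nat.card ↥R) := by
    rw [hBcard, haP]
    exact Nat.Coprime.mul_left (Nat.Coprime.pow_left a ((Fact.out : p.Prime).coprime_iff_not_dvd.2 hRp))
      (Nat.coprime_two_left.2 hRodd)
  have hRsol : Group.IsSolvable ↥R := Cfsg.Agent.S0205.result hRodd
  obtain ⟨S, hS⟩ := Coprime.exists_invariant_sylow hBR hBcop (Or.inr hRsol) l
  set M := (S : Subgroup ↥R).map R.subtype with hM
  have hMR : M ≤ R := map_subtype_le _
  have hMp : IsPGroup l ↥M := S.2.map _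
  have hPM : P ≤ normalizer (M : Set G) := le_sup_left.trans hS
  have hZM : Z2 ≤ normalizer (M : Set G) := le_sup_right.trans hS
  -- fixed points of `z`
  set T1 := R ⊓ centralizer ({z} : Set G) with hT1
  have hc : Nat.card ↥(M ⊓ centralizer ({z} : Set G)) = l ^ (Nat.card ↥T1).factorization l := by
    apply le_antisymm
    · obtain ⟨k, hk⟩ := IsPGroup.iff_card.1 (hMp.to_le (inf_le_left : M ⊓ centralizer ({z} : Set G) ≤ M))
      rw [hk]
      refine Nat.pow_le_pow_right (Fact.out : l.Prime).pos ?_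
      refine ((Fact.out : l.Prime).pow_dvd_iff_le_factorization Nat.card_pos.ne').1 ?_
      rw [← hk]
      exact card_dvd_of_le (inf_le_inf_right _ hMR)
    · obtain ⟨U⟩ := (inferInstance : Nonempty (Sylow l ↥T1))
      set U' := (U : Subgroup ↥T1).map T1.subtype with hU'
      have hU'T : U' ≤ T1 := map_subtype_le _
      have hcz : ∀ g ∈ U', Commute z g := fun g hg =>
        (mem_centralizer_singleton_iff.1 (hU'T hg).2).symm
      have hzU : Z2 ≤ normalizer (U' : Set G) := zpowers_le.2 (mem_normalizer_fintype fun g hg => by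
        rw [(hcz g hg).eq, mul_inv_cancel_right]; exact hg)
      have hcop2 : (Nat.card ↥Z2).Coprime (Nat.card ↥R) := by
        rw [hZ2c]; exact Nat.coprime_two_left.2 hRodd
      obtain ⟨S', hUS', hS'⟩ := Coprime.exists_invariant_sylow_ge (zpowers_le.2 hzR : Z2 ≤ _) hcop2
        (Or.inr hRsol) l U' (hU'T.trans inf_le_left) (U.2.map _) hzU
      obtain ⟨e, he, heS⟩ := Coprime.exists_conj_invariant_sylow (zpowers_le.2 hzR : Z2 ≤ _) hcop2
        (Or.inr hRsol) S' S hS' hZM
      have hle : U'.map (MulAut.conj e).toMonoidHom ≤ M ⊓ centralizer ({z} : Set G) := by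
        rintro _ ⟨g, hg, rfl⟩
        refine ⟨?_, mem_centralizer_singleton_iff.2 ?_⟩
        · rw [hM, ← heS]
          exact ⟨g, hUS' hg, rfl⟩
        · have hze : Commute z e := mem_centralizer_iff.1 he.2 z (mem_zpowers z)
          exact (((hze.mul_right (hcz g hg)).mul_right hze.inv_right).symm).eq
      refine le_trans (le_of_eq ?_) (card_le_of_le hle)
      rw [card_map_of_injective (MulAut.conj e).injective, Coprime.card_sylow_map]
  -- the action
  haveI := FrobeniusAmbient.normal_subgroupOf_sup hZP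
  let θ := FrobeniusAmbient.act hPM hZM
  let Kb := P.subgroupOf B
  let Rb := Z2.subgroupOf B
  let Z := FrobeniusAction.fixed θ Kb
  have hθ : ∀ (b : ↥B) (m : ↥M), ((θ b m : ↥M) : G) = (b : G) * m * (b : G)⁻¹ :=
    FrobeniusAmbient.act_apply hPM hZM
  have hlpow : ∀ m : ↥M, ∃ k, (m : G) ^ l ^ k = 1 := fun m => by
    obtain ⟨k, hk⟩ := hMp m
    exact ⟨k, by simpa using congrArg Subtype.val hk⟩
  obtain ⟨e0, he0, he01⟩ : ∃ e ∈ P, e ≠ 1 := (Subgroup.ne_bot_iff_exists_ne_one.1 hP1).elim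
    fun x hx => ⟨x, x.2, fun h => hx (Subtype.ext h)⟩
  have hZr : ∀ m ∈ Z, (m : G) ∈ zpowers r := by
    intro m hm
    refine hfix e0 he0 he01 m (hMR m.2) (hlpow m) ?_
    have h := congrArg Subtype.val (hm ⟨e0, mem_sup_left he0⟩ he0)
    rw [hθ] at h
    exact (mul_inv_eq_iff_eq_mul.1 h).symm
  have hZcen : ∀ m ∈ Z, ∀ x : ↥M, m * x = x * m := fun m hm x => Subtype.ext (by
    obtain ⟨k, hk⟩ := mem_zpowers_iff.1 (hZr m hm)
    show (m : G) * x = x * m
    rw [← hk]
    exact ((hrc x (hMR x.2)).zpow_left k).eq)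
  haveI : Z.Normal := ⟨fun m hm x => by rwa [← hZcen m hm x, mul_inv_cancel_right]⟩
  haveI : IsMulCommutative ↥Z := ⟨⟨fun x y => Subtype.ext (hZcen x x.2 y)⟩⟩
  have hBr : ∀ b : ↥B, Commute (b : G) r := by
    have : B ≤ centralizer ({r} : Set G) := sup_le
      (fun x hx => mem_centralizer_singleton_iff.2 (hrP x hx).symm.eq)
      (zpowers_le.2 (mem_centralizer_singleton_iff.2 hrz.symm.eq))
    exact fun b => mem_centralizer_singleton_iff.1 (this b.2)
  have hZfix : ∀ b, ∀ m ∈ Z, θ b m = m := fun b m hm => Subtype.ext (by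
    obtain ⟨k, hk⟩ := mem_zpowers_iff.1 (hZr m hm)
    rw [hθ, ← hk, ((hBr b).zpow_right k).eq, mul_inv_cancel_right])
  have hZinv : ∀ b, ∀ m ∈ Z, θ b m ∈ Z := fun b m hm => (hZfix b m hm).symm ▸ hm
  have hBM : (Nat.card ↥B).Coprime (Nat.card ↥M) :=
    hBcop.coprime_dvd_right (card_dvd_of_le hMR)
  have hKq : FrobeniusAction.fixed (FrobeniusAction.quot θ Z hZinv) Kb = ⊥ := by
    rw [eq_bot_iff]
    intro x hx
    obtain ⟨y, hy, rfl⟩ := FrobeniusAction.exists_lift θ Z hZinv hBM Kb hx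
    rw [mem_bot, QuotientGroup.eq_one_iff]
    exact hy
  haveI : Group.IsNilpotent (↥M ⧸ Z) := (hMp.to_quotient Z).isNilpotent
  have hq := FrobeniusAction.card_eq_pow (FrobeniusAmbient.isComplement'_subgroupOf hdis hZP)
    (FrobeniusAmbient.fpf_subgroupOf hfrob) _ (↥M ⧸ Z) (FrobeniusAction.quot θ Z hZinv) rfl
    (hBM.coprime_dvd_right (card_quotient_dvd_card Z)) hKq
  have hRb : Nat.card ↥Rb = 2 := by
    rw [Nat.card_congr (subgroupOfEquivOfLe (le_sup_right : Z2 ≤ B)).toEquiv, hZ2c]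
  rw [show Nat.card ↥(Z2.subgroupOf (P ⊔ Z2)) = 2 from hRb] at hq
  have hfc := FrobeniusAction.card_fixed θ Z hZinv hBM Rb
  have hres : Nat.card ↥(FrobeniusAction.fixed (FrobeniusAction.restrict θ Z hZinv) Rb) =
      Nat.card ↥Z := by
    rw [show FrobeniusAction.fixed (FrobeniusAction.restrict θ Z hZinv) Rb = ⊤ from
      (Subgroup.eq_top_iff' _).2 fun x b _ => Subtype.ext (hZfix b x x.2), Subgroup.card_top]
  rw [hres] at hfc
  have hfixz : Nat.card ↥(FrobeniusAction.fixed θ Rb) = Nat.card ↥(M ⊓ centralizer ({z} : Set G)) := by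
    rw [← card_map_of_injective M.subtype_injective,
      FrobeniusAmbient.map_fixed hPM hZM (le_sup_right : Z2 ≤ P ⊔ Z2)]
    have hC : centralizer (Z2 : Set G) = centralizer ({z} : Set G) := by
      rw [hZ2, zpowers_eq_closure, centralizer_closure]
    rw [hC]
  have hmain : Nat.card ↥M * Nat.card ↥Z =
      Nat.card ↥(M ⊓ centralizer ({z} : Set G)) ^ 2 := by
    rw [← hfixz, hfc, card_eq_card_quotient_mul_card_subgroup Z, mul_pow]
    rw [show Nat.card (↥M ⧸ Z) =
      Nat.card ↥(FrobeniusAction.fixed (FrobeniusAction.quot θ Z hZinv) Rb) ^ 2 from hq]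
    ring
  -- the fixed points of `P`
  have hcong : Nat.card ↥M ≡ Nat.card ↥Z [MOD Nat.card ↥P] := by
    refine card_modEq_fixed (θ.comp (inclusion (le_sup_left : P ≤ B))) Z
      (fun b x hx => hZfix _ x hx) fun b hb x hx => ?_
    have hxb : Commute (x : G) (b : G) := by
      have := congrArg Subtype.val hx
      rw [MonoidHom.comp_apply, hθ] at this
      exact (mul_inv_eq_iff_eq_mul.1 this).symm
    obtain ⟨k, hk⟩ := mem_zpowers_iff.1
      (hfix b b.2 (fun h => hb (Subtype.ext h)) x (hMR x.2) (hlpow x) hxb)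
    intro e he
    refine Subtype.ext ?_
    rw [hθ, ← hk, ((hBr e).zpow_right k).eq, mul_inv_cancel_right]
  have hZc : Nat.card ↥Z = l ^ Nat.factorization 3 l := by
    have hle : Z.map M.subtype ≤ zpowers r := by
      rintro _ ⟨m, hm, rfl⟩; exact hZr m hm
    have hmc : Nat.card ↥(Z.map M.subtype) = Nat.card ↥Z := card_map_of_injective M.subtype_injective
    have hd : Nat.card ↥Z ∣ 3 := by
      rw [← hmc, ← hr, ← Nat.card_zpowers]; exact card_dvd_of_le hle
    by_cases hl : l = 3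
    · have hrS : r ∈ M := by
        have hn : ((zpowers r).subgroupOf R).Normal := ⟨fun x hx g => by
          obtain ⟨k, hk⟩ := mem_zpowers_iff.1 (mem_subgroupOf.1 hx)
          rw [mem_subgroupOf]
          show (g : G) * x * (g : G)⁻¹ ∈ zpowers r
          rw [← hk, ((hrc g g.2).symm.zpow_right k).eq, mul_inv_cancel_right]
          exact zpow_mem (mem_zpowers r) k⟩
        have hp' : IsPGroup l ↥((zpowers r).subgroupOf R) :=
          (IsPGroup.of_card (n := 1) (by rw [Nat.card_zpowers, hr, hl, pow_one]) :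
            IsPGroup l ↥(zpowers r)).of_equiv (subgroupOfEquivOfLe (zpowers_le.2 hrR)).symm
        exact ⟨⟨r, hrR⟩, hp'.le_sylow_of_normal S (mem_zpowers r), rfl⟩
      have hrZ : (⟨r, hrS⟩ : ↥M) ∈ Z := fun b _ => Subtype.ext (by
        rw [hθ]
        show (b : G) * r * (b : G)⁻¹ = r
        rw [(hBr b).eq, mul_inv_cancel_right])
      have h3 : Nat.card ↥Z ≠ 1 := fun h => by
        rw [card_eq_one] at h
        rw [h, mem_bot] at hrZ
        have := congrArg Subtype.val hrZ
        simp only [OneMemClass.coe_one] at this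
        rw [this, orderOf_one] at hr
        omega
      rw [hl, Nat.Prime.factorization_self Nat.prime_three, pow_one]
      exact ((Nat.dvd_prime Nat.prime_three).1 hd).resolve_left h3
    · rw [Nat.factorization_eq_zero_of_not_dvd
        (fun h => hl ((Nat.prime_dvd_prime_iff_eq Fact.out Nat.prime_three).1 h)), pow_zero]
      rcases (Nat.dvd_prime Nat.prime_three).1 hd with h | h
      · exact h
      · obtain ⟨k, hk⟩ := IsPGroup.iff_card.1 (hMp.to_subgroup Z)
        rw [h] at hk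
        exact absurd (((Nat.prime_dvd_prime_iff_eq (Nat.prime_three) Fact.out).1
          (Nat.Prime.dvd_of_dvd_pow Nat.prime_three (dvd_of_eq hk))).symm) hl
  rw [← hc, ← hmain, ← hZc, sq]
  exact hcong.mul_right _

end Cfsg.Agent.Lib.JankoThompson.TorusBound
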