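import Cfsg.Agent.Lib.JankoThompson.TorusBound.Three
import Cfsg.Agent.Lib.JankoThompson.TorusBound.Count
import Cfsg.Agent.Lib.Walter.NoField.Section

/-!
# The centralisers of the elements of `Y` normalise `V`

Otherwise `r` centralises `Y` and `C(r)` has an odd normal complement `M₀` in which the fixed points
of `z = t w` form a torus of order `T = 2 |Y| ± 1`; a Sylow subgroup `P` of `Y` acts on the normal
`p`-complement of `M₀` and the fixed point formula gives `T² ≡ 9` modulo `|P|`, absurd.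
-/

set_option autoImplicit false
set_option linter.style.haveILetI false
set_option linter.unusedSectionVars false

universe u v

namespace Cfsg.Agent.Lib.JankoThompson.TorusBound

open Subgroup Walter66
open scoped Pointwise

variable {G : Type u} [Group G] [Finite G] {F : Type v} [Field F] [Fintype F] {t : G}
  {c : Cfg G F t} (d : Torus c)

theorem three_pow_mod_five (i : ℕ) : 3 ^ (2 * i + 1) % 5 = 2 ∨ 3 ^ (2 * i + 1) % 5 = 3 := by
  induction i with
  | zero => decide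
  | succ i ih =>
    rw [show 2 * (i + 1) + 1 = (2 * i + 1) + 2 by ring, pow_add, Nat.mul_mod]
    rcases ih with h | h <;> rw [h] <;> decide

theorem three_pow_mod_eight (i : ℕ) : 3 ^ (2 * i) % 8 = 1 := by
  rw [pow_mul, Nat.pow_mod]
  norm_num

/-- With an element of order five in the centraliser of `t`, three does not divide `q`. -/
theorem three_not_dvd_q (c : Cfg G F t) (h8 : Fintype.card F % 8 = 3 ∨ Fintype.card F % 8 = 5) {g : G}
    (hg : Commute g t) (h5 : 5 ∣ orderOf g) : ¬ 3 ∣ Fintype.card F := by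
  intro h3
  set q := Fintype.card F with hq
  obtain ⟨p, hp⟩ := CharP.exists F
  obtain ⟨f, hpp, hqf⟩ := FiniteField.card F p
  rw [← hq] at hqf
  have hp3 : 3 = p := (Nat.prime_dvd_prime_iff_eq Nat.prime_three hpp).1
    (Nat.prime_three.dvd_of_dvd_pow (hqf ▸ h3))
  obtain ⟨i, hi⟩ : ∃ i, (f : ℕ) = 2 * i + 1 := by
    rcases Nat.even_or_odd (f : ℕ) with ⟨i, hi⟩ | ⟨i, hi⟩
    · have := three_pow_mod_eight i
      rw [two_mul, ← hi, hp3, ← hqf] at this
      omega
    · exact ⟨i, hi⟩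
  have hmod := three_pow_mod_five i
  rw [← hi, hp3, ← hqf] at hmod
  have hdvd : 5 ∣ Nat.card ↥(centralizer ({t} : Set G)) :=
    h5.trans (Subgroup.orderOf_dvd_natCard _ (mem_centralizer_singleton_iff.2 hg.eq))
  rw [Walter.NoField.sec_card c.prod c.ord, Nat.card_congr c.iso.toEquiv,
    Linear.two_mul_card_PSL_two_of_odd (F := F) (Nat.odd_iff.2 (by omega)), ← hq,
    Nat.prime_five.dvd_mul, Nat.prime_five.dvd_mul] at hdvd
  omega

/-- In the `A₅` case the centraliser of `t` has an element of order divisible by five. -/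
theorem exists_five {y : G} (hy : y ∈ d.Y)
    (hcY : ∀ g, Commute g y → ∀ z ∈ d.Y, Commute g z)
    (f : (Subgroup.centralizer ({y} : Set G)) →* alternatingGroup (Fin 5))
    (hf : Function.Surjective f) (hk : ∀ g, f g = 1 ↔ (g : G) ∈ d.Y)
    (hz : ∀ g : Subgroup.centralizer ({y} : Set G),
      (t * d.w) * (g : G) * (t * d.w)⁻¹ * (g : G)⁻¹ ∈ d.Y) :
    ∃ g : G, Commute g t ∧ 5 ∣ orderOf g := by
  obtain ⟨x, hx1, hx5⟩ := alt_five
  obtain ⟨g0, hg0⟩ := hf x
  set e := t * d.w * (g0 : G) * (t * d.w)⁻¹ * (g0 : G)⁻¹ with he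
  have heY : e ∈ d.Y := hz g0
  obtain ⟨k, hk'⟩ := d.Y_odd
  set a := e ^ (k + 1) with ha
  have haY : a ∈ d.Y := pow_mem heY _
  have haa : a * a = e := by
    rw [ha, ← pow_add, show k + 1 + (k + 1) = (2 * k + 1) + 1 by ring, pow_succ, ← hk',
      orderOf_dvd_iff_pow_eq_one.1 (Subgroup.orderOf_dvd_natCard _ heY), one_mul]
  have haC : a ∈ centralizer ({y} : Set G) :=
    mem_centralizer_singleton_iff.2 (hcY y (Commute.refl y) a haY).eq.symm
  set g' := a * (g0 : G) with hg'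
  have hcom : Commute g' (t * d.w) := by
    refine Commute.symm ?_
    refine mul_inv_eq_iff_eq_mul.1 ?_
    rw [hg', show t * d.w * (a * (g0 : G)) * (t * d.w)⁻¹ =
      t * d.w * a * (t * d.w)⁻¹ * (t * d.w * (g0 : G) * (t * d.w)⁻¹ * (g0 : G)⁻¹) * (g0 : G) by group,
      ← he, tw_inv d haY, ← haa, inv_mul_cancel_left]
  have hx5' : orderOf x = 5 := by
    haveI : Fact (Nat.Prime 5) := ⟨Nat.prime_five⟩
    refine orderOf_eq_prime ?_ hx1
    simp only [pow_succ, pow_zero, one_mul]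
    exact hx5
  have hdvd : 5 ∣ orderOf g' := by
    have h1 := orderOf_map_dvd f (⟨a, haC⟩ * g0)
    rw [map_mul, (hk ⟨a, haC⟩).2 haY, one_mul, hg0, hx5'] at h1
    rwa [← Subgroup.orderOf_coe] at h1
  obtain ⟨h, hh⟩ := exists_conj_tw d
  refine ⟨h⁻¹ * g' * h, ?_, ?_⟩
  · refine mul_inv_eq_iff_eq_mul.1 ?_
    rw [show h⁻¹ * g' * h * t * (h⁻¹ * g' * h)⁻¹ = h⁻¹ * (g' * (h * t * h⁻¹) * g'⁻¹) * h by group,
      hh, hcom.eq, mul_inv_cancel_right, ← hh]
    group
  · rwa [show h⁻¹ * g' * h = MulAut.conj h⁻¹ g' by simp [MulAut.conj_apply], MulEquiv.orderOf_eq]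

/-- The centraliser of an element of order three of `K`. -/
theorem card_inf_centralizer (h8 : Fintype.card F % 8 = 3 ∨ Fintype.card F % 8 = 5)
    (h3q : ¬ 3 ∣ Fintype.card F) (h3n : ¬ 3 ∣ Nat.card ↥d.Y) {x : G} (hx : x ∈ c.K)
    (hxo : orderOf x = 3) :
    ∃ T : ℕ, Nat.card ↥(c.K ⊓ centralizer ({x} : Set G)) = T ∧ 3 ∣ T ∧ Odd T ∧
      (T + 1 = 2 * Nat.card ↥d.Y ∨ T = 2 * Nat.card ↥d.Y + 1) := by
  obtain ⟨T, hT, h⟩ := card_centralizer_three h8 h3q d.Y_card h3n (x := c.iso ⟨x, hx⟩)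
    (by rw [MulEquiv.orderOf_eq, Subgroup.orderOf_mk, hxo])
  refine ⟨T, ?_, h⟩
  rw [← hT]
  refine Nat.card_congr
    { toFun := fun g => ⟨c.iso ⟨g, g.2.1⟩, mem_centralizer_singleton_iff.2 (by
        rw [← map_mul, ← map_mul]
        exact congrArg c.iso (Subtype.ext (mem_centralizer_singleton_iff.1 g.2.2)))⟩
      invFun := fun g => ⟨(c.iso.symm g : G), (c.iso.symm g).2, mem_centralizer_singleton_iff.2 (by
        have h' := congrArg c.iso.symm (mem_centralizer_singleton_iff.1 g.2)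
        rw [map_mul, map_mul, c.iso.symm_apply_apply] at h'
        exact congrArg Subtype.val h')⟩
      left_inv := fun g => Subtype.ext (by
        show (c.iso.symm (c.iso ⟨g, g.2.1⟩) : G) = g
        rw [c.iso.symm_apply_apply])
      right_inv := fun g => Subtype.ext (by
        show c.iso ⟨(c.iso.symm g : G), _⟩ = g
        exact c.iso.apply_symm_apply _) }

/-- The centralisers of the elements of `Y` normalise `V`. -/
theorem centLe_of (hab : ∀ P : Sylow 2 G, ∀ a b : P, a * b = b * a)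
    (h8 : Fintype.card F % 8 = 3 ∨ Fintype.card F % 8 = 5) (hq : 11 ≤ Fintype.card F)
    (hcc : CentCases d) : d.CentLe := by
  classical
  haveI : Fact (Nat.Prime 2) := ⟨Nat.prime_two⟩
  by_contra hne
  obtain ⟨y0, hy0, hy01, hA0⟩ : ∃ y ∈ d.Y, y ≠ 1 ∧
      ¬ ∀ g, Commute g y → ∀ v ∈ d.V, g * v * g⁻¹ ∈ d.V := by
    by_contra h
    push Not at h
    exact hne fun y hy hy1 g hg v hv => h y hy hy1 g hg v hv
  obtain ⟨hrY, hcY, f, hf, hkf, hzf⟩ := (hcc y0 hy0 hy01).resolve_left hA0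
  have h3n := three_not_dvd_of d hab h8 hcc
  obtain ⟨g5, hg5, h55⟩ := exists_five d hy0 hcY f hf hkf hzf
  have h3q := three_not_dvd_q c h8 hg5 h55
  set n := Nat.card ↥d.Y with hn
  have hn1 : 1 < n := by
    have hY := d.Y_card
    unfold sgnQ at hY
    split_ifs at hY with h4 <;> omega
  set z := t * d.w with hzd
  obtain ⟨h, hh⟩ := exists_conj_tw d
  rw [← hzd] at hh
  set x := h⁻¹ * d.r * h with hxd
  have hxt : Commute x t := by
    refine mul_inv_eq_iff_eq_mul.1 ?_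
    rw [hxd, show h⁻¹ * d.r * h * t * (h⁻¹ * d.r * h)⁻¹ =
      h⁻¹ * (d.r * (h * t * h⁻¹) * d.r⁻¹) * h by group, hh, hzd, d.r_tw.eq, mul_inv_cancel_right,
      ← hzd, ← hh]
    group
  have hxo : orderOf x = 3 := by
    rw [hxd, show h⁻¹ * d.r * h = MulAut.conj h⁻¹ d.r by simp [MulAut.conj_apply],
      MulEquiv.orderOf_eq, d.r_ord]
  have hxK : x ∈ c.K := mem_K_of_odd hxt (hxo ▸ by decide)
  obtain ⟨T, hT, h3T, hTodd, hTn⟩ := card_inf_centralizer d h8 h3q h3n hxK hxo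
  -- the centraliser of `r`
  set D := centralizer ({d.r} : Set G) with hD
  have hzord : orderOf z = 2 := tw_ord d
  have hzz : z * z = 1 := tw_sq d
  have hzD : z ∈ D := mem_centralizer_singleton_iff.2 d.r_tw.symm.eq
  obtain ⟨P2, hP2⟩ := ((IsPGroup.of_card (n := 1) (by rw [Nat.card_zpowers, hzord, pow_one]) :
    IsPGroup 2 ↥(zpowers z)).of_equiv (subgroupOfEquivOfLe (zpowers_le.2 hzD)).symm).exists_le_sylow
  have hP2z : ∀ g : ↥D, g ∈ (P2 : Subgroup ↥D) → (g : G) = 1 ∨ (g : G) = z := by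
    intro g hg
    have hgz : Commute (g : G) z := pgroup_comm (fun S => ⟨⟨hab S⟩⟩) (P2.isPGroup'.map D.subtype)
      (mem_map_of_mem D.subtype hg)
      (show z ∈ (P2 : Subgroup ↥D).map D.subtype from ⟨⟨z, hzD⟩, hP2 (mem_zpowers z), rfl⟩)
    have hgr : Commute (g : G) d.r := mem_centralizer_singleton_iff.1 g.2
    set p := h⁻¹ * (g : G) * h with hpd
    have hpt : Commute p t := by
      refine mul_inv_eq_iff_eq_mul.1 ?_
      rw [hpd, show h⁻¹ * (g : G) * h * t * (h⁻¹ * (g : G) * h)⁻¹ =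
        h⁻¹ * ((g : G) * (h * t * h⁻¹) * (g : G)⁻¹) * h by group, hh, hgz.eq, mul_inv_cancel_right,
        ← hh]
      group
    have hpx : Commute p x := by
      refine mul_inv_eq_iff_eq_mul.1 ?_
      rw [hpd, hxd, show h⁻¹ * (g : G) * h * (h⁻¹ * d.r * h) * (h⁻¹ * (g : G) * h)⁻¹ =
        h⁻¹ * ((g : G) * d.r * (g : G)⁻¹) * h by group, hgr.eq, mul_inv_cancel_right]
    obtain ⟨e, he, hpe⟩ := Local.decomp c hpt.eq
    have hex : Commute e x := by
      rcases hpe with h' | h'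
      · rwa [← h']
      · have := (c.comm hxK).inv_left.mul_left hpx
        rwa [h', inv_mul_cancel_left] at this
    obtain ⟨k, hk⟩ := P2.isPGroup' ⟨g, hg⟩
    have hgk : (g : G) ^ 2 ^ k = 1 := by
      simpa using congrArg (fun y : ↥(P2 : Subgroup ↥D) => ((y : ↥D) : G)) hk
    have hpk : p ^ 2 ^ (k + 1) = 1 := by
      rw [hpd, show h⁻¹ * (g : G) * h = MulAut.conj h⁻¹ (g : G) by simp [MulAut.conj_apply],
        ← map_pow, pow_succ, pow_mul, hgk, one_pow, map_one]
    have hek : e ^ 2 ^ (k + 1) = 1 := by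
      rcases hpe with h' | h'
      · rwa [← h']
      · rw [h', (c.comm he).mul_pow, pow_succ' 2 k, pow_mul t, pow_two, c.sq, one_pow, one_mul,
          ← pow_succ'] at hpk
        exact hpk
    have he1 : e = 1 := by
      have h1 : orderOf e ∣ T := hT ▸ Subgroup.orderOf_dvd_natCard _
        (show e ∈ c.K ⊓ centralizer ({x} : Set G) from ⟨he, mem_centralizer_singleton_iff.2 hex.eq⟩)
      exact orderOf_eq_one_iff.1 (Nat.eq_one_of_dvd_coprimes
        ((Nat.coprime_two_left.2 hTodd).pow_left (k + 1)) (orderOf_dvd_of_pow_eq_one hek) h1)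
    have hg' : (g : G) = h * p * h⁻¹ := by rw [hpd]; group
    rcases hpe with h' | h'
    · left
      rw [hg', h', he1]; group
    · right
      rw [hg', h', he1, mul_one, hh]
  have hP2c : IsCyclic ↥(P2 : Subgroup ↥D) := by
    have hle : (P2 : Subgroup ↥D) ≤ zpowers (⟨z, hzD⟩ : ↥D) := fun g hg => by
      rcases hP2z g hg with h' | h'
      · rw [show g = 1 from Subtype.ext h']; exact one_mem _
      · rw [show g = ⟨z, hzD⟩ from Subtype.ext h']; exact mem_zpowers _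
    exact Subgroup.isCyclic_of_le hle
  have hDeven : 2 ∣ Nat.card ↥D := hzord ▸ Subgroup.orderOf_dvd_natCard _ hzD
  have hDmin : (Nat.card ↥D).minFac = 2 := le_antisymm (Nat.minFac_le_of_dvd le_rfl hDeven)
    (Nat.minFac_prime (fun h' => by rw [h'] at hDeven; omega)).two_le
  set τ := MonoidHom.transferSylow P2 (hP2c.normalizer_le_centralizer hDmin)
  set M0 := τ.ker.map D.subtype with hM0
  have hM0D : M0 ≤ D := map_subtype_le _
  have hM0odd : Odd (Nat.card ↥M0) := by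
    rw [hM0, card_map_of_injective D.subtype_injective, ← Nat.not_even_iff_odd, even_iff_two_dvd]
    exact MonoidHom.not_dvd_card_ker_transferSylow P2 _
  have hmem : ∀ g, Commute g d.r → Odd (orderOf g) → g ∈ M0 := by
    intro g hg ho
    have hgD : g ∈ D := mem_centralizer_singleton_iff.2 hg.eq
    refine ⟨⟨g, hgD⟩, MonoidHom.mem_ker.2 (orderOf_eq_one_iff.1 ?_), rfl⟩
    obtain ⟨k, hk⟩ := IsPGroup.iff_orderOf.1 P2.isPGroup' (τ ⟨g, hgD⟩)
    have h1 := orderOf_map_dvd τ ⟨g, hgD⟩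
    rw [hk, Subgroup.orderOf_mk] at h1
    rw [hk]
    exact Nat.eq_one_of_dvd_coprimes ((Nat.coprime_two_left.2 ho).pow_left k) dvd_rfl h1
  have hM0odd' : ∀ g ∈ M0, Odd (orderOf g) := fun g hg =>
    hM0odd.of_dvd_nat (Subgroup.orderOf_dvd_natCard _ hg)
  have hM0r : ∀ g ∈ M0, Commute g d.r := fun g hg => mem_centralizer_singleton_iff.1 (hM0D hg)
  have hM0z : z ∈ normalizer (M0 : Set G) := mem_normalizer_fintype fun g hg => by
    refine hmem _ ?_ ?_
    · exact ((d.r_tw.symm.mul_left (hM0r g hg)).mul_left d.r_tw.symm.inv_left)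
    · rw [show z * g * z⁻¹ = MulAut.conj z g from rfl, MulEquiv.orderOf_eq]; exact hM0odd' g hg
  have hYM0 : d.Y ≤ M0 := fun g hg => hmem g (hrY g hg).symm (odd_order_Y d hg)
  have hrM0 : d.r ∈ M0 := hmem _ (Commute.refl _) (d.r_ord ▸ by decide)
  -- the fixed points of `z`
  have hT1 : Nat.card ↥(M0 ⊓ centralizer ({z} : Set G)) = T := by
    have hmap : M0 ⊓ centralizer ({z} : Set G) =
        (c.K ⊓ centralizer ({x} : Set G)).map (MulAut.conj h).toMonoidHom := by
      ext g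
      constructor
      · rintro ⟨hg, hgz⟩
        have hgz' : Commute g z := mem_centralizer_singleton_iff.1 hgz
        refine ⟨h⁻¹ * g * h, ⟨mem_K_of_odd ?_ ?_, mem_centralizer_singleton_iff.2 ?_⟩, by
          show h * (h⁻¹ * g * h) * h⁻¹ = g
          group⟩
        · refine mul_inv_eq_iff_eq_mul.1 ?_
          rw [show h⁻¹ * g * h * t * (h⁻¹ * g * h)⁻¹ = h⁻¹ * (g * (h * t * h⁻¹) * g⁻¹) * h by group,
            hh, hgz'.eq, mul_inv_cancel_right, ← hh]
          group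
        · rw [show h⁻¹ * g * h = MulAut.conj h⁻¹ g by simp [MulAut.conj_apply], MulEquiv.orderOf_eq]
          exact hM0odd' g hg
        · refine mul_inv_eq_iff_eq_mul.1 ?_
          rw [hxd, show h⁻¹ * g * h * (h⁻¹ * d.r * h) * (h⁻¹ * g * h)⁻¹ =
            h⁻¹ * (g * d.r * g⁻¹) * h by group, (hM0r g hg).eq, mul_inv_cancel_right]
      · rintro ⟨e, ⟨he, hex⟩, rfl⟩
        have hex' : Commute e x := mem_centralizer_singleton_iff.1 hex
        show h * e * h⁻¹ ∈ M0 ⊓ centralizer ({z} : Set G)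
        refine ⟨hmem _ ?_ ?_, mem_centralizer_singleton_iff.2 ?_⟩
        · refine mul_inv_eq_iff_eq_mul.1 ?_
          rw [show d.r = h * x * h⁻¹ by rw [hxd]; group,
            show h * e * h⁻¹ * (h * x * h⁻¹) * (h * e * h⁻¹)⁻¹ = h * (e * x * e⁻¹) * h⁻¹ by group,
            hex'.eq, mul_inv_cancel_right]
        · rw [show h * e * h⁻¹ = MulAut.conj h e from rfl, MulEquiv.orderOf_eq]
          exact hTodd.of_dvd_nat (hT ▸ Subgroup.orderOf_dvd_natCard _
            (show e ∈ c.K ⊓ centralizer ({x} : Set G) from ⟨he, hex⟩))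
        · refine mul_inv_eq_iff_eq_mul.1 ?_
          rw [← hh, show h * e * h⁻¹ * (h * t * h⁻¹) * (h * e * h⁻¹)⁻¹ = h * (e * t * e⁻¹) * h⁻¹ by
            group, (c.comm he).symm.eq, mul_inv_cancel_right]
    rw [hmap, card_map_of_injective (MulAut.conj h).injective, hT]
  -- a Sylow subgroup of `Y`
  haveI := d.Y_cyc
  obtain ⟨gY, hgY, hgen⟩ : ∃ g ∈ d.Y, ∀ z ∈ d.Y, z ∈ zpowers g := by
    obtain ⟨⟨g, hg⟩, hgen⟩ := d.Y_cyc.exists_generator
    exact ⟨g, hg, fun z hz => by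
      obtain ⟨k, hk⟩ := mem_zpowers_iff.1 (hgen ⟨z, hz⟩)
      exact mem_zpowers_iff.2 ⟨k, congrArg Subtype.val hk⟩⟩
  have hgY1 : gY ≠ 1 := fun h' => by
    have hbot : d.Y = ⊥ := eq_bot_iff.2 fun z hz => by
      obtain ⟨k, hk⟩ := mem_zpowers_iff.1 (hgen z hz)
      rw [h', one_zpow] at hk
      exact mem_bot.2 hk.symm
    rw [hn, hbot, card_bot] at hn1
    omega
  obtain ⟨p, hp, hpn⟩ := Nat.exists_prime_and_dvd (show n ≠ 1 by omega)
  haveI : Fact p.Prime := ⟨hp⟩
  have hp2 : p ≠ 2 := fun h' => by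
    rw [h'] at hpn
    exact Nat.not_even_iff_odd.2 d.Y_odd (even_iff_two_dvd.2 hpn)
  have hp3 : p ≠ 3 := fun h' => h3n (h' ▸ hpn)
  obtain ⟨SY⟩ := (inferInstance : Nonempty (Sylow p ↥d.Y))
  set P := (SY : Subgroup ↥d.Y).map d.Y.subtype with hP
  have hPY : P ≤ d.Y := map_subtype_le _
  have hPp : IsPGroup p ↥P := SY.2.map _
  have hPc : Nat.card ↥P = p ^ n.factorization p := Coprime.card_sylow_map SY
  have hP1 : P ≠ ⊥ := fun h' => by
    rw [h', card_bot] at hPc
    have := hp.factorization_pos_of_dvd (show n ≠ 0 by omega) hpn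
    have := Nat.one_lt_pow this.ne' hp.one_lt
    omega
  have hYcomm : ∀ a ∈ d.Y, ∀ b ∈ d.Y, Commute a b := fun a ha b hb => by
    obtain ⟨i, rfl⟩ := mem_zpowers_iff.1 (hgen a ha)
    obtain ⟨j, rfl⟩ := mem_zpowers_iff.1 (hgen b hb)
    exact (Commute.refl gY).zpow_zpow i j
  have hpY : ∀ g ∈ d.Y, (∃ k, g ^ p ^ k = 1) → g ∈ P := by
    rintro g hg ⟨k, hk⟩
    haveI : ((zpowers g).subgroupOf d.Y).Normal := ⟨fun a ha b => by
      have e : b * a * b⁻¹ = a := Subtype.ext (by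
        show (b : G) * a * (b : G)⁻¹ = a
        rw [(hYcomm b b.2 a a.2).eq, mul_inv_cancel_right])
      rwa [e]⟩
    have hgp : IsPGroup p ↥(zpowers g) := by
      obtain ⟨l, -, hl⟩ := (Nat.dvd_prime_pow hp).1 (orderOf_dvd_of_pow_eq_one hk)
      exact IsPGroup.of_card (n := l) (by rw [Nat.card_zpowers, hl])
    exact ⟨⟨g, hg⟩, (hgp.of_equiv (subgroupOfEquivOfLe (zpowers_le.2 hg)).symm).le_sylow_of_normal SY
      (mem_zpowers g), rfl⟩
  -- the fixed points in `M0`
  have hInE : ∀ g ∈ M0, ∀ a ∈ d.Y, a ≠ 1 → Commute g a → InE d g := fun g hg a ha ha1 hga =>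
    inE_of_commute d hcc hrY ha ha1 hga (hM0r g hg)
  have hpE : ∀ g ∈ M0, (∃ k, g ^ p ^ k = 1) → InE d g → g ∈ P := by
    rintro g - ⟨k, hk⟩ ⟨a, ha, j, rfl⟩
    have hc' : Commute a (d.r ^ j) := (hrY a ha).symm.pow_right j
    rw [hc'.mul_pow] at hk
    have hjY : (d.r ^ j) ^ p ^ k ∈ d.Y := by
      rw [eq_inv_of_mul_eq_one_right hk]; exact inv_mem (pow_mem ha _)
    have hj1 : (d.r ^ j) ^ p ^ k = 1 := by
      rw [← orderOf_eq_one_iff]
      refine Nat.eq_one_of_dvd_coprimes ((Nat.prime_three.coprime_iff_not_dvd).2 h3n) ?_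
        (Subgroup.orderOf_dvd_natCard _ hjY)
      exact orderOf_dvd_of_pow_eq_one (by rw [← pow_mul d.r j, ← pow_mul, mul_comm, pow_mul, r_cube d, one_pow])
    have hr1 : d.r ^ j = 1 := by
      rw [← orderOf_eq_one_iff]
      refine Nat.eq_one_of_dvd_coprimes
        (((Nat.coprime_primes Nat.prime_three hp).2 (Ne.symm hp3)).pow_right k) ?_
        (orderOf_dvd_of_pow_eq_one hj1)
      exact orderOf_dvd_of_pow_eq_one (by rw [← pow_mul, mul_comm, pow_mul, r_cube d, one_pow])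
    rw [hr1, one_pow, mul_one] at hk
    rw [hr1, mul_one]
    exact hpY a ha ⟨k, hk⟩
  have hNorm : ∀ g ∈ M0, (∀ a ∈ P, g * a * g⁻¹ ∈ P) → ∀ a ∈ d.Y, Commute g a := by
    intro g hg hgP
    obtain ⟨e, heP, he1⟩ : ∃ e ∈ P, e ≠ 1 := (Subgroup.ne_bot_iff_exists_ne_one.1 hP1).elim
      fun u hu => ⟨u, u.2, fun h' => hu (Subtype.ext h')⟩
    have hne : g * e * g⁻¹ ≠ 1 := fun h' => he1 (conj_eq_one_iff.1 h')
    have hgY' : g * gY * g⁻¹ ∈ d.Y := by
      have hcr : Commute (g * gY * g⁻¹) d.r :=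
        ((hM0r g hg).mul_left (hrY gY hgY).symm).mul_left (hM0r g hg).inv_left
      have hce : Commute (g * gY * g⁻¹) (g * e * g⁻¹) := by
        show _ * _ = _ * _
        rw [show g * gY * g⁻¹ * (g * e * g⁻¹) = g * (gY * e) * g⁻¹ by group,
          (hYcomm gY hgY e (hPY heP)).eq]
        group
      obtain ⟨b, hb, j, hbj⟩ := inE_of_commute d hcc hrY (hPY (hgP e heP)) hne hce hcr
      have hnn : (g * gY * g⁻¹) ^ n = 1 := by
        rw [conj_pow, orderOf_dvd_iff_pow_eq_one.1 (Subgroup.orderOf_dvd_natCard _ hgY), mul_one,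
          mul_inv_cancel]
      rw [hbj, ((hrY b hb).symm.pow_right j).mul_pow,
        orderOf_dvd_iff_pow_eq_one.1 (Subgroup.orderOf_dvd_natCard _ hb), one_mul] at hnn
      have hr1 : d.r ^ j = 1 := by
        rw [← orderOf_eq_one_iff]
        refine Nat.eq_one_of_dvd_coprimes ((Nat.prime_three.coprime_iff_not_dvd).2 h3n) ?_
          (orderOf_dvd_of_pow_eq_one hnn)
        exact orderOf_dvd_of_pow_eq_one (by rw [← pow_mul, mul_comm, pow_mul, r_cube d, one_pow])
      rw [hbj, hr1, mul_one]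
      exact hb
    have hfix : g * gY * g⁻¹ = gY := by
      rcases conj_gen d hab hrY hgY hgY1 hgen hgY' with h' | h'
      · exact h'
      exfalso
      obtain ⟨k, hk⟩ := hM0odd' g hg
      have h2 : ∀ i : ℕ, g ^ (2 * i) * gY * (g ^ (2 * i))⁻¹ = gY := fun i => by
        induction i with
        | zero => simp
        | succ i ih =>
          rw [show g ^ (2 * (i + 1)) * gY * (g ^ (2 * (i + 1)))⁻¹ =
            g * (g * (g ^ (2 * i) * gY * (g ^ (2 * i))⁻¹) * g⁻¹) * g⁻¹ by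
              rw [show 2 * (i + 1) = (2 * i).succ.succ by omega, pow_succ', pow_succ']; group,
            ih, h', show g * gY⁻¹ * g⁻¹ = (g * gY * g⁻¹)⁻¹ by group, h', inv_inv]
      have h1 : g ^ (2 * k + 1) * gY * (g ^ (2 * k + 1))⁻¹ = gY⁻¹ := by
        rw [show g ^ (2 * k + 1) * gY * (g ^ (2 * k + 1))⁻¹ =
          g * (g ^ (2 * k) * gY * (g ^ (2 * k))⁻¹) * g⁻¹ by rw [pow_succ']; group, h2, h']
      rw [← hk, pow_orderOf_eq_one, one_mul, inv_one, mul_one] at h1
      exact hgY1 (eq_one_of_inv_eq (odd_order_Y d hgY) h1.symm)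
    intro a ha
    obtain ⟨i, rfl⟩ := mem_zpowers_iff.1 (hgen a ha)
    exact (show Commute g gY from mul_inv_eq_iff_eq_mul.1 hfix).zpow_right i
  have hPM0 : P ≤ M0 := hPY.trans hYM0
  obtain ⟨Q, hQ⟩ := (hPp.of_equiv (subgroupOfEquivOfLe hPM0).symm).exists_le_sylow
  have hQP : (Q : Subgroup ↥M0).map M0.subtype = P := by
    have hPQ : P ≤ (Q : Subgroup ↥M0).map M0.subtype := fun a ha => ⟨⟨a, hPM0 ha⟩, hQ ha, rfl⟩
    refine le_antisymm ?_ hPQ
    set Q' := (Q : Subgroup ↥M0).map M0.subtype with hQ'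
    have hQp : IsPGroup p ↥Q' := Q.2.map _
    haveI := hQp.isNilpotent
    by_contra hle
    have hlt : P.subgroupOf Q' < ⊤ := lt_top_iff_ne_top.mpr fun h' => hle (subgroupOf_eq_top.mp h')
    obtain ⟨g, hgN, hgP⟩ := SetLike.exists_of_lt (Group.normalizerCondition_of_isNilpotent (G := ↥Q') _ hlt)
    refine hgP ?_
    have hgM0 : (g : G) ∈ M0 := map_subtype_le _ g.2
    have hgPP : ∀ a ∈ P, (g : G) * a * (g : G)⁻¹ ∈ P := fun a ha =>
      ((mem_normalizer_iff.1 hgN) ⟨a, hPQ ha⟩).1 ha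
    obtain ⟨k, hk⟩ := hQp g
    exact hpE g hgM0 ⟨k, by simpa using congrArg Subtype.val hk⟩
      (hInE g hgM0 gY hgY hgY1 (hNorm g hgM0 hgPP gY hgY))
  have hQc : normalizer ((Q : Subgroup ↥M0) : Set ↥M0) ≤
      centralizer ((Q : Subgroup ↥M0) : Set ↥M0) := by
    intro g hg
    refine mem_centralizer_iff.2 fun a ha => Subtype.ext ?_
    have hgP : ∀ b ∈ P, (g : G) * b * (g : G)⁻¹ ∈ P := by
      intro b hb
      rw [← hQP] at hb ⊢
      obtain ⟨b', hb', rfl⟩ := hb
      exact ⟨g * b' * g⁻¹, (mem_normalizer_iff.1 hg b').1 hb', rfl⟩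
    exact (hNorm g g.2 hgP _ (hPY (hQP ▸ ⟨a, ha, rfl⟩ : (a : G) ∈ P))).eq.symm
  set σ := MonoidHom.transferSylow Q hQc
  set R := σ.ker.map M0.subtype with hR
  have hRM0 : R ≤ M0 := map_subtype_le _
  have hRp : ¬ p ∣ Nat.card ↥R := by
    rw [hR, card_map_of_injective M0.subtype_injective]
    exact MonoidHom.not_dvd_card_ker_transferSylow Q _
  have hRodd : Odd (Nat.card ↥R) := hM0odd.of_dvd_nat (card_dvd_of_le hRM0)
  have hRmem : ∀ g ∈ M0, ¬ p ∣ orderOf g → g ∈ R := by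
    intro g hg ho
    refine ⟨⟨g, hg⟩, MonoidHom.mem_ker.2 (orderOf_eq_one_iff.1 ?_), rfl⟩
    obtain ⟨k, hk⟩ := IsPGroup.iff_orderOf.1 Q.isPGroup' (σ ⟨g, hg⟩)
    have h1 := orderOf_map_dvd σ ⟨g, hg⟩
    rw [hk, Subgroup.orderOf_mk] at h1
    rw [hk]
    exact Nat.eq_one_of_dvd_coprimes ((hp.coprime_iff_not_dvd.2 ho).pow_left k) dvd_rfl h1
  have hRnorm : ∀ b ∈ normalizer (M0 : Set G), b ∈ normalizer (R : Set G) := fun b hb =>
    mem_normalizer_fintype fun g hg => by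
      refine hRmem _ ((mem_normalizer_iff.1 hb g).1 (hRM0 hg)) fun hd => hRp ?_
      rw [show b * g * b⁻¹ = MulAut.conj b g from rfl, MulEquiv.orderOf_eq] at hd
      exact hd.trans (Subgroup.orderOf_dvd_natCard _ hg)
  -- the congruences
  have hcopT : T.Coprime n := by
    rcases hTn with h' | h'
    · refine Nat.coprime_of_dvd' fun l _ h1 h2 => ?_
      have := Nat.dvd_sub (h2.mul_left 2) h1
      rwa [show 2 * n - T = 1 by omega] at this
    · rw [h', Nat.coprime_mul_right_add_left]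
      exact Nat.coprime_one_left n
  have hpT : ¬ p ∣ T := fun h' => hp.not_dvd_one (hcopT ▸ Nat.dvd_gcd h' hpn)
  have hT1R : R ⊓ centralizer ({z} : Set G) = M0 ⊓ centralizer ({z} : Set G) := by
    refine le_antisymm (inf_le_inf_right _ hRM0) (le_inf ?_ inf_le_right)
    intro g hg
    refine hRmem g hg.1 fun hd => hpT ?_
    exact hT1 ▸ hd.trans (Subgroup.orderOf_dvd_natCard _ hg)
  have key : ∀ l ∈ T.primeFactors,
      (((l ^ T.factorization l : ℕ) : ZMod (Nat.card ↥P))) ^ 2 =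
        (((l ^ Nat.factorization 3 l : ℕ) : ZMod (Nat.card ↥P))) ^ 2 := by
    intro l hl
    obtain ⟨hlp, hlT, -⟩ := Nat.mem_primeFactors.1 hl
    haveI : Fact l.Prime := ⟨hlp⟩
    rw [← Nat.cast_pow, ← Nat.cast_pow, ZMod.natCast_eq_natCast_iff]
    have h' := sq_modEq (l := l) P R hPp hP1 hp2 (z := z) (r := d.r) hzord
      (fun a ha => tw_inv d (hPY ha)) (hRnorm z hM0z)
      (fun a ha => hRnorm a (Subgroup.le_normalizer (hPM0 ha))) hRodd hRp d.r_ord
      (hRmem _ hrM0 (by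
        rw [d.r_ord]
        exact fun hd => hp3 ((Nat.prime_dvd_prime_iff_eq hp Nat.prime_three).1 hd)))
      (fun g hg => (hM0r g (hRM0 hg)).symm) d.r_tw (fun a ha => hrY a (hPY ha)) ?_
    · rwa [hT1R, hT1] at h'
    rintro a ha ha1 g hg ⟨k, hk⟩ hga
    obtain ⟨b, hb, j, rfl⟩ := hInE g (hRM0 hg) a (hPY ha) ha1 hga
    rw [((hrY b hb).symm.pow_right j).mul_pow] at hk
    have hbr : b ^ l ^ k = 1 := by
      rw [← orderOf_eq_one_iff]
      refine Nat.eq_one_of_dvd_coprimes ((Nat.prime_three.coprime_iff_not_dvd).2 h3n) ?_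
        (Subgroup.orderOf_dvd_natCard _ (pow_mem hb _))
      refine orderOf_dvd_of_pow_eq_one ?_
      rw [eq_inv_of_mul_eq_one_left hk, inv_pow, ← pow_mul d.r j, ← pow_mul, mul_comm, pow_mul, r_cube d,
        one_pow, inv_one]
    have hb1 : b = 1 := by
      rw [← orderOf_eq_one_iff]
      exact Nat.eq_one_of_dvd_coprimes ((hcopT.coprime_dvd_left hlT).pow_left k)
        (orderOf_dvd_of_pow_eq_one hbr) (Subgroup.orderOf_dvd_natCard _ hb)
    rw [hb1, one_mul]
    exact pow_mem (mem_zpowers _) j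
  have hT0 : T ≠ 0 := hTodd.pos.ne'
  have hprodT : (∏ l ∈ T.primeFactors, l ^ T.factorization l) = T := by
    conv_rhs => rw [← Nat.prod_factorization_pow_eq_self hT0]
    rw [Nat.prod_factorization_eq_prod_primeFactors]
  have hprod3 : (∏ l ∈ T.primeFactors, l ^ Nat.factorization 3 l) = 3 := by
    rw [Finset.prod_eq_single 3]
    · rw [Nat.Prime.factorization_self Nat.prime_three, pow_one]
    · intro l hl hne'
      rw [Nat.factorization_eq_zero_of_not_dvd (fun hd => hne'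
        ((Nat.prime_dvd_prime_iff_eq (Nat.prime_of_mem_primeFactors hl) Nat.prime_three).1 hd)),
        pow_zero]
    · intro h'
      exact absurd (Nat.mem_primeFactors.2 ⟨Nat.prime_three, h3T, hT0⟩) h'
  have h9 : (T : ZMod (Nat.card ↥P)) ^ 2 = 9 := by
    have h' := Finset.prod_congr rfl key
    rw [Finset.prod_pow, Finset.prod_pow, ← Nat.cast_prod, ← Nat.cast_prod, hprodT, hprod3] at h'
    rw [h']
    norm_num
  have hnN : (n : ZMod (Nat.card ↥P)) = 0 :=
    (ZMod.natCast_eq_zero_iff _ _).2 (card_dvd_of_le hPY)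
  have h1 : (T : ZMod (Nat.card ↥P)) ^ 2 = 1 := by
    rcases hTn with h' | h'
    · have h'' := congrArg (fun a : ℕ => (a : ZMod (Nat.card ↥P))) h'
      push_cast at h''
      rw [hnN, mul_zero] at h''
      rw [eq_neg_of_add_eq_zero_left h'']
      ring
    · have h'' := congrArg (fun a : ℕ => (a : ZMod (Nat.card ↥P))) h'
      push_cast at h''
      rw [h'', hnN]
      ring
  have h8' : ((8 : ℕ) : ZMod (Nat.card ↥P)) = 0 := by
    push_cast
    linear_combination h9.symm.trans h1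
  rw [ZMod.natCast_eq_zero_iff, hPc] at h8'
  have hpos := hp.factorization_pos_of_dvd (show n ≠ 0 by omega) hpn
  have hp8 : p ∣ 2 ^ 3 := (dvd_pow_self p hpos.ne').trans (by simpa using h8')
  exact hp2 ((Nat.prime_dvd_prime_iff_eq hp Nat.prime_two).1 (hp.dvd_of_dvd_pow hp8))

end Cfsg.Agent.Lib.JankoThompson.TorusBound
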