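import Cfsg.Agent.Lib.JankoThompson.Setup
import Cfsg.Agent.Lib.JankoThompson.Local.Base
import Cfsg.Agent.Lib.Walter.NoField.Local.PairNorm

/-!
# The four-group, the torus and their normalisers
-/

set_option autoImplicit false
set_option linter.style.haveILetI false
set_option linter.unusedSectionVars false

universe u v

namespace Cfsg.Agent.Lib.JankoThompson.TorusBound

open Subgroup Walter66
open scoped Pointwise

variable {G : Type u} [Group G] [Finite G] {F : Type v} [Field F] [Fintype F] {t : G}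
  {c : Cfg G F t} (d : Torus c)

/-- The two possibilities for the centraliser of a non-trivial element of `Y`. -/
def CentCases : Prop :=
  ∀ y ∈ d.Y, y ≠ 1 →
    (∀ g, Commute g y → ∀ v ∈ d.V, g * v * g⁻¹ ∈ d.V) ∨
    ((∀ z ∈ d.Y, Commute d.r z) ∧ (∀ g, Commute g y → ∀ z ∈ d.Y, Commute g z) ∧
      ∃ f : (Subgroup.centralizer ({y} : Set G)) →* alternatingGroup (Fin 5), Function.Surjective f ∧
        (∀ g, f g = 1 ↔ (g : G) ∈ d.Y) ∧
        (∀ g : Subgroup.centralizer ({y} : Set G),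
          (t * d.w) * (g : G) * (t * d.w)⁻¹ * (g : G)⁻¹ ∈ d.Y))

/-- Elements of the form `a * r ^ j`, `a` in `Y`. -/
def InE (g : G) : Prop := ∃ a ∈ d.Y, ∃ j : ℕ, g = a * d.r ^ j

theorem ts_comm : Commute t d.s := c.comm d.s_mem

theorem s_sq : d.s * d.s = 1 := by rw [← pow_two, ← d.s_ord, pow_orderOf_eq_one]

theorem w_sq : d.w * d.w = 1 := by rw [← pow_two, ← d.w_ord, pow_orderOf_eq_one]

theorem r_cube : d.r ^ 3 = 1 := by rw [← d.r_ord, pow_orderOf_eq_one]

theorem t_y {y : G} (hy : y ∈ d.Y) : Commute t y := c.comm (d.Y_le hy)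

theorem r_ts : d.r * (t * d.s) * d.r⁻¹ = t := by
  rw [show d.r * (t * d.s) * d.r⁻¹ = (d.r * t * d.r⁻¹) * (d.r * d.s * d.r⁻¹) by group, d.r_t,
    d.r_s, (ts_comm d).eq, ← mul_assoc, s_sq d, one_mul]

theorem s_ne_t : d.s ≠ t := fun h => Local.not_mem c ((congrArg (· ∈ c.K) h).mp d.s_mem)

theorem r_not_t : ¬ Commute d.r t := fun h => s_ne_t d (by
  rw [← d.r_t, h.eq, mul_inv_cancel_right])

theorem r_not_mem : d.r ∉ d.Y := fun h => r_not_t d (t_y d h).symm

theorem tw_ne : t * d.w ≠ 1 := fun h => Local.not_mem c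
  ((congrArg (· ∈ c.K) (eq_inv_of_mul_eq_one_left h)).mpr (inv_mem d.w_mem))

theorem tw_sq : t * d.w * (t * d.w) = 1 := by
  rw [(c.comm d.w_mem).symm.mul_mul_mul_comm, c.sq, w_sq d, one_mul]

theorem tw_ord : orderOf (t * d.w) = 2 := orderOf_eq_prime (by rw [pow_two]; exact tw_sq d) (tw_ne d)

theorem tw_inv {y : G} (hy : y ∈ d.Y) : t * d.w * y * (t * d.w)⁻¹ = y⁻¹ := by
  rw [show t * d.w * y * (t * d.w)⁻¹ = t * (d.w * y * d.w⁻¹) * t⁻¹ by group, d.w_inv y hy,
    (t_y d (inv_mem hy)).eq, mul_inv_cancel_right]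

theorem exists_conj_tw : ∃ h : G, h * t * h⁻¹ = t * d.w := isConj_iff.1 (d.one_class _ (tw_ord d))

theorem mem_V {g : G} : g ∈ d.V ↔ g = 1 ∨ g = t ∨ g = d.s ∨ g = t * d.s :=
  Walter.NoField.mem_closure_pair c.sq (s_sq d) (ts_comm d).eq

theorem t_mem_V : t ∈ d.V := (mem_V d).2 (Or.inr (Or.inl rfl))

theorem s_mem_V : d.s ∈ d.V := (mem_V d).2 (Or.inr (Or.inr (Or.inl rfl)))

theorem V_Y {v y : G} (hv : v ∈ d.V) (hy : y ∈ d.Y) : Commute v y := by
  rcases (mem_V d).1 hv with h | h | h | h <;> rw [h]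
  exacts [Commute.one_left y, t_y d hy, d.Y_s y hy, (t_y d hy).mul_left (d.Y_s y hy)]

theorem V_isPGroup : IsPGroup 2 ↥d.V := closure_pgroup
  (by rintro x (rfl | rfl) <;> first | exact c.sq | exact s_sq d)
  (by rintro x (rfl | rfl) y (rfl | rfl) <;>
        first | rfl | exact (ts_comm d).eq | exact (ts_comm d).eq.symm)

/-- An element commuting with `t` and with a non-trivial element of `Y` is in `V Y`. -/
theorem decomp_ty {y g : G} (hy : y ∈ d.Y) (hy1 : y ≠ 1) (hgt : Commute g t) (hgy : Commute g y) :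
    ∃ v ∈ d.V, ∃ a ∈ d.Y, g = v * a := by
  have h := d.cent_ty y hy hy1 g hgt hgy
  have hn : d.V ≤ normalizer (d.Y : Set G) := fun v hv => by
    refine mem_normalizer_iff.2 fun z => ⟨fun hz => ?_, fun hz => ?_⟩
    · rw [(V_Y d hv hz).eq, mul_inv_cancel_right]; exact hz
    · have := (V_Y d (inv_mem hv) hz).eq
      rw [show z = v⁻¹ * (v * z * v⁻¹) * v by group, this, inv_mul_cancel_right]
      exact hz
  change g ∈ d.V ⊔ d.Y at h
  have h' : g ∈ (d.V : Set G) * (d.Y : Set G) := by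
    rw [← Subgroup.coe_mul_of_left_le_normalizer_right d.V d.Y hn]; exact h
  obtain ⟨v, hv, a, ha, he⟩ := h'
  exact ⟨v, hv, a, ha, he.symm⟩

/-- An element of odd order commuting with `t` lies in `K`. -/
theorem mem_K_of_odd {g : G} (hg : Commute g t) (ho : Odd (orderOf g)) : g ∈ c.K := by
  obtain ⟨e, he, h | h⟩ := Local.decomp c hg.eq
  · rwa [h]
  exfalso
  obtain ⟨k, hk⟩ := ho
  have h1 := pow_orderOf_eq_one g
  nth_rw 1 [h] at h1
  rw [(c.comm he).mul_pow, hk, pow_succ t (2 * k), pow_mul, pow_two, c.sq, one_pow, one_mul] at h1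
  exact Local.not_mem c
    ((congrArg (· ∈ c.K) (eq_inv_of_mul_eq_one_left h1)).mpr (inv_mem (pow_mem he _)))

theorem r_conj_V (j : ℕ) {v : G} (hv : v ∈ d.V) : d.r ^ j * v * (d.r ^ j)⁻¹ ∈ d.V := by
  induction j with
  | zero => simpa using hv
  | succ j ih =>
    rw [show d.r ^ (j + 1) * v * (d.r ^ (j + 1))⁻¹ = d.r * (d.r ^ j * v * (d.r ^ j)⁻¹) * d.r⁻¹ by
      rw [pow_succ']; group]
    rcases (mem_V d).1 ih with h | h | h | h <;> rw [h]
    · simp
    · rw [d.r_t]; exact s_mem_V d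
    · rw [d.r_s]; exact mul_mem (t_mem_V d) (s_mem_V d)
    · rw [r_ts d]; exact t_mem_V d

theorem eq_one_of_commute_r {v : G} (hv : v ∈ d.V) (h : Commute d.r v) : v = 1 := by
  have e : d.r * v * d.r⁻¹ = v := by rw [h.eq, mul_inv_cancel_right]
  rcases (mem_V d).1 hv with h' | h' | h' | h'
  · exact h'
  · rw [h', d.r_t] at e; exact absurd e (s_ne_t d)
  · rw [h', d.r_s] at e; exact absurd (mul_eq_right.1 e) c.ne_one
  · rw [h', r_ts d] at e
    have hs : d.s = 1 := left_eq_mul.1 e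
    have := d.s_ord
    rw [hs, orderOf_one] at this
    omega

/-- The elements of `V` other than one are conjugate to `t` by a power of `r`. -/
theorem exists_pow_conj {u : G} (hu : u ∈ d.V) (hu1 : u ≠ 1) :
    ∃ j : ℕ, d.r ^ j * u * (d.r ^ j)⁻¹ = t := by
  rcases (mem_V d).1 hu with h | h | h | h <;> subst h
  · exact absurd rfl hu1
  · exact ⟨0, by simp⟩
  · refine ⟨2, ?_⟩
    rw [show d.r ^ 2 * d.s * (d.r ^ 2)⁻¹ = d.r * (d.r * d.s * d.r⁻¹) * d.r⁻¹ by rw [pow_two]; group,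
      d.r_s, r_ts d]
  · exact ⟨1, by rw [pow_one]; exact r_ts d⟩

section Alt

theorem alt_cent : ∀ x b : alternatingGroup (Fin 5), x * x * x = 1 → x ≠ 1 → x * b = b * x →
    b = 1 ∨ b = x ∨ b = x * x := by decide +kernel

theorem alt_invert : ∀ x : alternatingGroup (Fin 5), x * x * x = 1 →
    ∃ a : alternatingGroup (Fin 5), a * a = 1 ∧ a * x * a⁻¹ = x⁻¹ := by decide +kernel

theorem alt_orders : ∀ x : alternatingGroup (Fin 5),
    x * x = 1 ∨ x * x * x = 1 ∨ x * x * x * x * x = 1 := by decide +kernel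

theorem alt_five : ∃ x : alternatingGroup (Fin 5), x ≠ 1 ∧ x * x * x * x * x = 1 := by decide +kernel

theorem alt_card : Nat.card (alternatingGroup (Fin 5)) = 60 := by
  rw [nat_card_alternatingGroup, Nat.card_eq_fintype_card, Fintype.card_fin]
  decide

end Alt

/-- An element of `C(y)` commuting with `r` has the form `a * r ^ j`. -/
theorem inE_of_commute (hcc : CentCases d) (hrY : ∀ z ∈ d.Y, Commute d.r z) {y g : G}
    (hy : y ∈ d.Y) (hy1 : y ≠ 1) (hgy : Commute g y) (hgr : Commute g d.r) : InE d g := by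
  rcases hcc y hy hy1 with hA | ⟨-, -, f, -, hk, -⟩
  · have hu1 : g * t * g⁻¹ ≠ 1 := fun h => c.ne_one (conj_eq_one_iff.1 h)
    obtain ⟨j, hj⟩ := exists_pow_conj d (hA g hgy t (t_mem_V d)) hu1
    have hg2 : Commute (d.r ^ j * g) t := by
      refine mul_inv_eq_iff_eq_mul.1 ?_
      refine Eq.trans ?_ hj
      group
    obtain ⟨v, hv, a, ha, he⟩ := decomp_ty d hy hy1 hg2 (((hrY y hy).pow_left j).mul_left hgy)
    have hrg : Commute d.r (v * a) := he ▸ ((Commute.refl d.r).pow_right j).mul_right hgr.symm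
    have hrv : Commute d.r v := by
      have := hrg.mul_right (hrY a ha).inv_right
      rwa [mul_inv_cancel_right] at this
    rw [eq_one_of_commute_r d hv hrv, one_mul] at he
    refine ⟨a, ha, 2 * j, ?_⟩
    rw [← he, mul_assoc, (hgr.pow_right (2 * j)).eq, ← mul_assoc, ← pow_add,
      show j + 2 * j = 3 * j by omega, pow_mul, r_cube d, one_pow, one_mul]
  · have hrC : d.r ∈ centralizer ({y} : Set G) := mem_centralizer_singleton_iff.2 (hrY y hy).eq
    have hgC : g ∈ centralizer ({y} : Set G) := mem_centralizer_singleton_iff.2 hgy.eq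
    have h3 : f ⟨d.r, hrC⟩ * f ⟨d.r, hrC⟩ * f ⟨d.r, hrC⟩ = 1 := by
      rw [← map_mul, ← map_mul, ← map_one f]
      refine congrArg f (Subtype.ext ?_)
      show d.r * d.r * d.r = 1
      rw [← pow_two, ← pow_succ, r_cube d]
    have hne : f ⟨d.r, hrC⟩ ≠ 1 := fun h => r_not_mem d ((hk _).1 h)
    have hcom : f ⟨d.r, hrC⟩ * f ⟨g, hgC⟩ = f ⟨g, hgC⟩ * f ⟨d.r, hrC⟩ := by
      rw [← map_mul, ← map_mul]; exact congrArg f (Subtype.ext hgr.symm.eq)
    obtain ⟨j, hj⟩ : ∃ j : ℕ, f ⟨g, hgC⟩ = f ⟨d.r, hrC⟩ ^ j := by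
      rcases alt_cent _ _ h3 hne hcom with h | h | h
      · exact ⟨0, by rw [pow_zero]; exact h⟩
      · exact ⟨1, by rw [pow_one]; exact h⟩
      · exact ⟨2, by rw [pow_two]; exact h⟩
    refine ⟨g * (d.r ^ j)⁻¹, (hk (⟨g, hgC⟩ * (⟨d.r, hrC⟩ ^ j)⁻¹)).1 ?_, j,
      (inv_mul_cancel_right _ _).symm⟩
    rw [map_mul, map_inv, map_pow, ← hj, mul_inv_cancel]

/-- A generator of `Y` is sent to itself or its inverse by the normaliser of `Y`. -/
theorem conj_gen (hab : ∀ P : Sylow 2 G, ∀ a b : P, a * b = b * a)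
    (hrY : ∀ z ∈ d.Y, Commute d.r z) {y g : G} (hy : y ∈ d.Y) (hy1 : y ≠ 1)
    (hgen : ∀ z ∈ d.Y, z ∈ zpowers y) (hg : g * y * g⁻¹ ∈ d.Y) :
    g * y * g⁻¹ = y ∨ g * y * g⁻¹ = y⁻¹ := by
  haveI : Fact (Nat.Prime 2) := ⟨Nat.prime_two⟩
  set C := centralizer ({y} : Set G) with hC
  -- `g` normalises the centraliser
  have hgC : ∀ x ∈ C, g * x * g⁻¹ ∈ C := by
    intro x hx
    have hcom : Commute (g * x * g⁻¹) (g * y * g⁻¹) := by
      show _ * _ = _ * _
      rw [show g * x * g⁻¹ * (g * y * g⁻¹) = g * (x * y) * g⁻¹ by group,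
        mem_centralizer_singleton_iff.1 hx]
      group
    obtain ⟨k, hk⟩ := mem_zpowers_iff.1 (hgen _ hg)
    have heq : zpowers (g * y * g⁻¹) = zpowers y := by
      refine eq_of_le_of_card_ge (zpowers_le.2 (hgen _ hg)) ?_
      rw [Nat.card_zpowers, Nat.card_zpowers,
        show g * y * g⁻¹ = MulAut.conj g y from rfl, MulEquiv.orderOf_eq]
    obtain ⟨i, hi⟩ := mem_zpowers_iff.1 (heq.symm ▸ mem_zpowers y : y ∈ zpowers (g * y * g⁻¹))
    refine mem_centralizer_singleton_iff.2 ?_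
    rw [← hi]
    exact (hcom.zpow_right i).eq
  have hVC : d.V ≤ C := fun v hv => mem_centralizer_singleton_iff.2 (V_Y d hv hy).eq
  -- `V` is a Sylow subgroup of the centraliser
  have hmax : ∀ Q : Subgroup G, Q ≤ C → IsPGroup 2 ↥Q → d.V ≤ Q → Q ≤ d.V := by
    intro Q hQC hQ hVQ x hx
    have hxt : Commute x t := pgroup_comm (fun S => ⟨⟨hab S⟩⟩) hQ hx (hVQ (t_mem_V d))
    obtain ⟨v, hv, a, ha, he⟩ := decomp_ty d hy hy1 hxt (mem_centralizer_singleton_iff.1 (hQC hx))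
    have haQ : a ∈ Q := by
      have := mul_mem (inv_mem (hVQ hv)) hx
      rwa [he, inv_mul_cancel_left] at this
    have ha1 : a = 1 := by
      obtain ⟨k, hk⟩ := IsPGroup.iff_orderOf.1 hQ ⟨a, haQ⟩
      rw [Subgroup.orderOf_mk] at hk
      have hodd : Odd (orderOf a) := d.Y_odd.of_dvd_nat (Subgroup.orderOf_dvd_natCard _ ha)
      rcases Nat.eq_zero_or_pos k with h0 | h0
      · rwa [h0, pow_zero, orderOf_eq_one_iff] at hk
      · rw [hk] at hodd
        exact absurd (Nat.even_pow.2 ⟨even_two, h0.ne'⟩) (Nat.not_even_iff_odd.2 hodd)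
    rw [he, ha1, mul_one]
    exact hv
  obtain ⟨P, hP⟩ := ((V_isPGroup d).of_equiv (subgroupOfEquivOfLe hVC).symm).exists_le_sylow
  have hPV : (P : Subgroup ↥C).map C.subtype ≤ d.V := hmax _ (map_subtype_le _) (P.2.map _)
    fun v hv => ⟨⟨v, hVC hv⟩, hP hv, rfl⟩
  let W : Subgroup ↥C := (d.V.map (MulAut.conj g).toMonoidHom).subgroupOf C
  have hWle : d.V.map (MulAut.conj g).toMonoidHom ≤ C := by
    rintro _ ⟨v, hv, rfl⟩; exact hgC v (hVC hv)
  obtain ⟨Q, hQ⟩ :=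
    (((V_isPGroup d).map (MulAut.conj g).toMonoidHom).of_equiv
      (subgroupOfEquivOfLe hWle).symm).exists_le_sylow
  obtain ⟨e, he⟩ := MulAction.exists_smul_eq ↥C Q P
  -- the conjugate normalises `V`
  have hg1 : ∀ v ∈ d.V, (e : G) * g * v * ((e : G) * g)⁻¹ ∈ d.V := by
    intro v hv
    have hm : (⟨g * v * g⁻¹, hgC v (hVC hv)⟩ : ↥C) ∈ (Q : Subgroup ↥C) := hQ ⟨v, hv, rfl⟩
    have hm' : e * ⟨g * v * g⁻¹, hgC v (hVC hv)⟩ * e⁻¹ ∈ (P : Subgroup ↥C) := by
      rw [← he, Sylow.coe_subgroup_smul]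
      exact ⟨_, hm, rfl⟩
    have := hPV ⟨_, hm', rfl⟩
    rw [show (e : G) * g * v * ((e : G) * g)⁻¹ = (e : G) * (g * v * g⁻¹) * (e : G)⁻¹ by group]
    exact this
  set g1 := (e : G) * g with hg1def
  obtain ⟨j, hj⟩ := exists_pow_conj d (hg1 t (t_mem_V d))
    (fun h => c.ne_one (conj_eq_one_iff.1 h))
  set g2 := d.r ^ j * g1 with hg2def
  have hg2V : ∀ v ∈ d.V, g2 * v * g2⁻¹ ∈ d.V := fun v hv => by
    rw [show g2 * v * g2⁻¹ = d.r ^ j * (g1 * v * g1⁻¹) * (d.r ^ j)⁻¹ by rw [hg2def]; group]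
    exact r_conj_V d j (hg1 v hv)
  have hg2t : g2 * t * g2⁻¹ = t := by
    rw [show g2 * t * g2⁻¹ = d.r ^ j * (g1 * t * g1⁻¹) * (d.r ^ j)⁻¹ by rw [hg2def]; group, hj]
  have hg2s : g2 * d.s * g2⁻¹ = d.s := by
    rcases (mem_V d).1 (hg2V _ (s_mem_V d)) with h | h | h | h
    · have hs := d.s_ord
      rw [conj_eq_one_iff.1 h, orderOf_one] at hs
      omega
    · exact absurd (mul_left_cancel (mul_right_cancel (h.trans hg2t.symm))) (s_ne_t d)
    · exact h
    · exfalso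
      have h' : g2 * (t * d.s) * g2⁻¹ = d.s := by
        rw [show g2 * (t * d.s) * g2⁻¹ = (g2 * t * g2⁻¹) * (g2 * d.s * g2⁻¹) by group, hg2t, h,
          ← mul_assoc, c.sq, one_mul]
      have := Local.not_swap hab (s_sq d)
        (show t * d.s * (t * d.s) = 1 by
          rw [(ts_comm d).symm.mul_mul_mul_comm, c.sq, s_sq d, one_mul])
        (show d.s * (t * d.s) = t * d.s * d.s by rw [← mul_assoc, ← (ts_comm d).eq]) h h'
      exact c.ne_one (mul_eq_right.1 this.symm)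
  have hg2t' : Commute g2 t := mul_inv_eq_iff_eq_mul.1 hg2t
  have hg2s' : Commute g2 d.s := mul_inv_eq_iff_eq_mul.1 hg2s
  obtain ⟨a, ha, hga⟩ := d.cent_ts g2 hg2t' hg2s'
  have haC : a ∈ C := (sup_le hVC fun z hz => mem_centralizer_singleton_iff.2 (by
    obtain ⟨i, rfl⟩ := mem_zpowers_iff.1 (hgen z hz)
    exact ((Commute.refl y).zpow_left i).eq) : d.V ⊔ d.Y ≤ C) ha
  have hga' : g2 * y * g2⁻¹ = y ∨ g2 * y * g2⁻¹ = y⁻¹ := by
    rcases hga with h | h <;> rw [h]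
    · exact Or.inl (mul_inv_eq_iff_eq_mul.2 (mem_centralizer_singleton_iff.1 haC))
    · refine Or.inr ?_
      rw [show a * d.w * y * (a * d.w)⁻¹ = a * (d.w * y * d.w⁻¹) * a⁻¹ by group, d.w_inv y hy]
      exact mul_inv_eq_iff_eq_mul.2
        (show Commute a y from mem_centralizer_singleton_iff.1 haC).inv_right.eq
  have key : g2 * y * g2⁻¹ = g * y * g⁻¹ := by
    obtain ⟨i, hi⟩ := mem_zpowers_iff.1 (hgen _ hg)
    have h1 : Commute (d.r ^ j * (e : G)) (g * y * g⁻¹) :=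
      ((hrY _ hg).pow_left j).mul_left
        (hi ▸ (show Commute (e : G) y from mem_centralizer_singleton_iff.1 e.2).zpow_right i)
    rw [show g2 * y * g2⁻¹ = d.r ^ j * (e : G) * (g * y * g⁻¹) * (d.r ^ j * (e : G))⁻¹ by
      rw [hg2def, hg1def]; group, h1.eq, mul_inv_cancel_right]
  rwa [key] at hga'

end Cfsg.Agent.Lib.JankoThompson.TorusBound
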