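import Cfsg.Agent.Lib.JankoThompson.Setup
import Cfsg.Agent.Lib.DicksonId.Torus
import Cfsg.Agent.Lib.RecogThree.PSL2Orders
import Cfsg.Agent.Lib.PSLSpectrum.Basic
import Cfsg.Agent.Lib.Linear.Order

/-!
# Elements of order three of `PSL₂(q)` and a fixed point lemma

The centraliser of an element of order three is the torus of odd order `(q ± 1) / 2` when
`3` does not divide `q (q ∓ 1) / 4`.
-/

set_option autoImplicit false
set_option linter.style.haveILetI false

universe u v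

namespace Cfsg.Agent.Lib.JankoThompson.TorusBound

open Subgroup

/-- An element of prime order `p` lies in a conjugate of any subgroup of index prime to `p`. -/
theorem exists_conj_mem {G : Type u} [Group G] [Finite G] {p : ℕ} [Fact p.Prime] (H : Subgroup G)
    (hH : ¬ p ∣ H.index) {x : G} (hx : orderOf x = p) : ∃ g : G, g⁻¹ * x * g ∈ H := by
  have hp : IsPGroup p (zpowers x) := IsPGroup.of_card (n := 1) (by rw [Nat.card_zpowers, hx, pow_one])
  obtain ⟨c, hc⟩ := hp.nonempty_fixed_point_of_prime_not_dvd_card (G ⧸ H) (by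
    rwa [← Subgroup.index_eq_card])
  obtain ⟨g, rfl⟩ := QuotientGroup.mk_surjective c
  have h1 : ((x * g : G) : G ⧸ H) = (g : G ⧸ H) := hc ⟨x, mem_zpowers x⟩
  refine ⟨g, ?_⟩
  have h2 := QuotientGroup.eq.1 h1.symm
  rwa [← mul_assoc] at h2

variable {F : Type v} [Field F] [Fintype F]

/-- The centraliser of an element of order three. -/
theorem card_centralizer_three (h8 : Fintype.card F % 8 = 3 ∨ Fintype.card F % 8 = 5)
    (h3q : ¬ 3 ∣ Fintype.card F) {n : ℕ} (hn : 4 * n = (sgnQ (Fintype.card F) + 1).natAbs)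
    (h3n : ¬ 3 ∣ n) {x : Matrix.ProjectiveSpecialLinearGroup (Fin 2) F} (hx : orderOf x = 3) :
    ∃ T : ℕ, Nat.card ↥(centralizer ({x} : Set (Matrix.ProjectiveSpecialLinearGroup (Fin 2) F))) = T ∧
      3 ∣ T ∧ Odd T ∧ (T + 1 = 2 * n ∨ T = 2 * n + 1) := by
  obtain ⟨p, hp⟩ := CharP.exists F
  haveI := hp
  haveI : Fact p.Prime := ⟨CharP.char_is_prime F p⟩
  set q := Fintype.card F with hq
  obtain ⟨f, -, hqf⟩ := FiniteField.card F p
  rw [← hq] at hqf
  have hpq : p ∣ q := hqf ▸ dvd_pow_self p f.pos.ne'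
  have hn' : (q % 4 = 3 ∧ 4 * n = q + 1) ∨ (q % 4 = 1 ∧ 4 * n + 1 = q) := by
    unfold sgnQ at hn
    split_ifs at hn with h4
    · exact Or.inl ⟨h4, by omega⟩
    · exact Or.inr ⟨by omega, by omega⟩
  obtain ⟨L, hL⟩ : ∃ L, (q % 4 = 3 ∧ L + 1 = 2 * n ∧ q = 2 * L + 1) ∨
      (q % 4 = 1 ∧ L = 2 * n + 1 ∧ q + 1 = 2 * L) := by
    rcases hn' with ⟨h, h'⟩ | ⟨h, h'⟩
    · exact ⟨2 * n - 1, Or.inl ⟨h, by omega, by omega⟩⟩
    · exact ⟨2 * n + 1, Or.inr ⟨h, rfl, by omega⟩⟩
  have hLodd : Odd L := Nat.odd_iff.2 (by omega)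
  have hdd : RecogThree.PSL2Orders.dd q = 2 := if_neg (by omega)
  have hspec : ∀ y : Matrix.ProjectiveSpecialLinearGroup (Fin 2) F,
      orderOf y ∣ L ∨ orderOf y ∣ 2 * n ∨ orderOf y ∣ p := by
    intro y
    have h := RecogThree.PSL2Orders.orderOf_cases p y
    rw [← hq, hdd] at h
    rcases hn' with ⟨h4, h'⟩ | ⟨h4, h'⟩
    · rw [show (q - 1) / 2 = L by omega, show (q + 1) / 2 = 2 * n by omega] at h
      tauto
    · rw [show (q - 1) / 2 = 2 * n by omega, show (q + 1) / 2 = L by omega] at h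
      tauto
  have hp3 : p ≠ 3 := fun h => h3q (h ▸ hpq)
  have hxL : 3 ∣ L := by
    rcases hspec x with h | h | h <;> rw [hx] at h
    · exact h
    · exact absurd ((Nat.Coprime.dvd_mul_left (by norm_num)).1 h) h3n
    · exact absurd ((Nat.prime_dvd_prime_iff_eq Nat.prime_three Fact.out).1 h).symm hp3
  have hcLn : L.Coprime (2 * n) := by
    rcases hL with ⟨-, h, -⟩ | ⟨-, h, -⟩
    · rw [← h, Nat.coprime_self_add_right]
      exact Nat.coprime_one_right _
    · rw [h, Nat.coprime_self_add_left]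
      exact Nat.coprime_one_left _
  have hcLq : L.Coprime q := by
    refine Nat.coprime_of_dvd' fun r _ h1 h2 => ?_
    rcases hL with ⟨-, -, h⟩ | ⟨-, -, h⟩
    · have := Nat.dvd_sub h2 (h1.mul_left 2)
      rwa [show q - 2 * L = 1 by omega] at this
    · have := Nat.dvd_sub (h1.mul_left 2) h2
      rwa [show 2 * L - q = 1 by omega] at this
  have hcLp : L.Coprime p := hcLq.coprime_dvd_right hpq
  -- the torus through `x`
  have hxp : x ^ p ≠ 1 := fun h => by
    have := orderOf_dvd_of_pow_eq_one h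
    rw [hx] at this
    exact hp3 ((Nat.prime_dvd_prime_iff_eq Nat.prime_three Fact.out).1 this).symm
  have hgcd : Nat.gcd 2 (q - 1) = 2 := Nat.gcd_eq_left (by omega)
  obtain ⟨N, hN, hNm⟩ : ∃ N, (N = q - 1 ∨ N = q + 1) ∧ 2 * L = N := by
    rcases hL with ⟨-, -, h⟩ | ⟨-, -, h⟩
    · exact ⟨q - 1, Or.inl rfl, by omega⟩
    · exact ⟨q + 1, Or.inr rfl, by omega⟩
  obtain ⟨y, hy, hxy⟩ := DicksonId.exists_torus (p := p) hxp (N := N) hN (m := L)
    (by rw [← hq, hgcd]; exact hNm) (orderOf_dvd_iff_pow_eq_one.1 (hx ▸ hxL))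
  refine ⟨L, ?_, hxL, hLodd, by omega⟩
  set C := centralizer ({x} : Set (Matrix.ProjectiveSpecialLinearGroup (Fin 2) F))
  have hle : zpowers y ≤ C := fun z hz => mem_centralizer_singleton_iff.2 (by
    obtain ⟨i, rfl⟩ := mem_zpowers_iff.1 hxy
    obtain ⟨j, rfl⟩ := mem_zpowers_iff.1 hz
    exact ((Commute.refl y).zpow_zpow j i).eq)
  have h1 : L ≤ Nat.card ↥C := by
    rw [← hy, ← Nat.card_zpowers]
    exact card_le_of_le hle
  have hcard : Nat.card (Matrix.ProjectiveSpecialLinearGroup (Fin 2) F) = L * (q * (4 * n)) := by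
    have h := Linear.two_mul_card_PSL_two_of_odd (F := F) (Nat.odd_iff.2 (by omega))
    rw [← hq] at h
    refine Nat.eq_of_mul_eq_mul_left two_pos (h.trans ?_)
    rcases hL with ⟨-, hLn, hLq⟩ | ⟨-, hLn, hLq⟩
    · rw [show q - 1 = 2 * L by omega, show q + 1 = 4 * n by omega]; ring
    · rw [show q - 1 = 4 * n by omega, show q + 1 = 2 * L by omega]; ring
  have hc4 : L.Coprime (q * (4 * n)) := by
    refine hcLq.mul_right ?_
    rw [show 4 * n = 2 * (2 * n) by ring]
    exact Nat.Coprime.mul_right (Nat.coprime_two_right.2 hLodd) hcLn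
  have h2 : Nat.card ↥C ∣ L := by
    refine PSLSpectrum.card_dvd_of_orders (A := L) hcard hc4 fun z hz => ?_
    exact PSLSpectrum.orderOf_dvd_of_commute hcLn hcLp hspec (y := x)
      (fun h => by rw [h, orderOf_one] at hx; omega) (hx ▸ hxL) (mem_centralizer_singleton_iff.1 hz)
  exact le_antisymm (Nat.le_of_dvd hLodd.pos h2) h1

end Cfsg.Agent.Lib.JankoThompson.TorusBound
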