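import Cfsg.Agent.Lib.JankoThompson.TorusBound.Basic
import Cfsg.Agent.Lib.JankoThompson.TorusBound.ThreeTorus

/-!
# Three does not divide the order of the torus

The element `r` is conjugate to an element of `Y` of order three.  If the centraliser of the latter
normalised `V` it could not contain an element inverted by `t`, so it is an extension of `Y` by
`A₅` and `|Y| = 3`.  Then `E = Y × ⟨r⟩` has a normaliser interchanging two commuting involutions,
against the abelian Sylow 2-subgroups.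
-/

set_option autoImplicit false
set_option linter.style.haveILetI false
set_option linter.unusedSectionVars false

universe u v

namespace Cfsg.Agent.Lib.JankoThompson.TorusBound

open Subgroup Walter66
open scoped Pointwise

variable {G : Type u} [Group G] [Finite G] {F : Type v} [Field F] [Fintype F] {t : G}
  {c : Cfg G F t} (d : Torus c)

/-- `r` is the transport of an element of order three of `Y`. -/
theorem exists_transport (h8 : Fintype.card F % 8 = 3 ∨ Fintype.card F % 8 = 5)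
    (h3 : 3 ∣ Nat.card ↥d.Y) :
    ∃ h y : G, y ∈ d.Y ∧ orderOf y = 3 ∧ h * y * h⁻¹ = d.r ∧ h * t * h⁻¹ = t * d.w := by
  haveI : Fact (Nat.Prime 3) := ⟨Nat.prime_three⟩
  set q := Fintype.card F with hq
  obtain ⟨h0, hh0⟩ := exists_conj_tw d
  have hxt : Commute (h0⁻¹ * d.r * h0) t := by
    refine mul_inv_eq_iff_eq_mul.1 ?_
    rw [show h0⁻¹ * d.r * h0 * t * (h0⁻¹ * d.r * h0)⁻¹ =
      h0⁻¹ * (d.r * (h0 * t * h0⁻¹) * d.r⁻¹) * h0 by group, hh0, d.r_tw.eq, mul_inv_cancel_right,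
      ← hh0]
    group
  have hxo : orderOf (h0⁻¹ * d.r * h0) = 3 := by
    rw [show h0⁻¹ * d.r * h0 = MulAut.conj h0⁻¹ d.r by simp [MulAut.conj_apply],
      MulEquiv.orderOf_eq, d.r_ord]
  have hxK : h0⁻¹ * d.r * h0 ∈ c.K := mem_K_of_odd hxt (hxo ▸ by decide)
  have hidx : ¬ 3 ∣ (d.Y.subgroupOf c.K).index := by
    have hmul := (d.Y.subgroupOf c.K).card_mul_index
    rw [Nat.card_congr (subgroupOfEquivOfLe d.Y_le).toEquiv, Nat.card_congr c.iso.toEquiv] at hmul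
    have hcard := Linear.two_mul_card_PSL_two_of_odd (F := F) (Nat.odd_iff.2 (by omega))
    rw [← hmul, ← hq] at hcard
    have hY := d.Y_card
    rw [← hq] at hY
    have hn0 : 0 < Nat.card ↥d.Y := Nat.card_pos
    intro hd
    unfold sgnQ at hY
    split_ifs at hY with h4
    · have e : (d.Y.subgroupOf c.K).index = 2 * (q * (q - 1)) := by
        refine Nat.eq_of_mul_eq_mul_left (show 0 < 2 * Nat.card ↥d.Y by omega) ?_
        rw [mul_assoc, hcard, show q + 1 = 4 * Nat.card ↥d.Y by omega]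
        ring
      rw [e, Nat.prime_three.dvd_mul, Nat.prime_three.dvd_mul] at hd
      omega
    · have e : (d.Y.subgroupOf c.K).index = 2 * (q * (q + 1)) := by
        refine Nat.eq_of_mul_eq_mul_left (show 0 < 2 * Nat.card ↥d.Y by omega) ?_
        rw [mul_assoc, hcard, show q - 1 = 4 * Nat.card ↥d.Y by omega]
        ring
      rw [e, Nat.prime_three.dvd_mul, Nat.prime_three.dvd_mul] at hd
      omega
  obtain ⟨⟨k, hk⟩, hky⟩ := exists_conj_mem (d.Y.subgroupOf c.K) hidx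
    (x := (⟨_, hxK⟩ : ↥c.K)) (by rw [Subgroup.orderOf_mk, hxo])
  refine ⟨h0 * k, k⁻¹ * (h0⁻¹ * d.r * h0) * k, hky, ?_, by group, ?_⟩
  · rw [show k⁻¹ * (h0⁻¹ * d.r * h0) * k = MulAut.conj k⁻¹ (h0⁻¹ * d.r * h0) by
      simp [MulAut.conj_apply], MulEquiv.orderOf_eq, hxo]
  · rw [show h0 * k * t * (h0 * k)⁻¹ = h0 * (k * t * k⁻¹) * h0⁻¹ by group, (c.comm hk).symm.eq,
      mul_inv_cancel_right, hh0]

/-- An element of odd order equal to its inverse is one. -/
theorem eq_one_of_inv_eq {e : G} (ho : Odd (orderOf e)) (h : e⁻¹ = e) : e = 1 := by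
  have h2 : orderOf e ∣ 2 := orderOf_dvd_of_pow_eq_one (by
    rw [pow_two]; nth_rw 1 [← h]; exact inv_mul_cancel e)
  exact orderOf_eq_one_iff.1 (Nat.eq_one_of_dvd_coprimes ((Nat.coprime_two_right).2 ho) dvd_rfl h2)

theorem odd_order_Y {z : G} (hz : z ∈ d.Y) : Odd (orderOf z) :=
  d.Y_odd.of_dvd_nat (Subgroup.orderOf_dvd_natCard _ hz)

/-- The centraliser of an element of `Y` of order three does not normalise `V`. -/
theorem not_normalises (h3 : 3 ∣ Nat.card ↥d.Y) {h y : G} (hhy : h * y * h⁻¹ = d.r)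
    (hht : h * t * h⁻¹ = t * d.w) :
    ¬ ∀ g, Commute g y → ∀ v ∈ d.V, g * v * g⁻¹ ∈ d.V := by
  intro hA
  haveI : Fact (Nat.Prime 3) := ⟨Nat.prime_three⟩
  haveI := d.Y_cyc
  obtain ⟨g, hgY, hgen⟩ : ∃ g ∈ d.Y, ∀ z ∈ d.Y, z ∈ zpowers g := by
    obtain ⟨⟨g, hg⟩, hgen⟩ := d.Y_cyc.exists_generator
    exact ⟨g, hg, fun z hz => by
      obtain ⟨k, hk⟩ := mem_zpowers_iff.1 (hgen ⟨z, hz⟩)
      exact mem_zpowers_iff.2 ⟨k, congrArg Subtype.val hk⟩⟩
  have hgo : orderOf g = Nat.card ↥d.Y := by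
    refine le_antisymm (Nat.le_of_dvd Nat.card_pos (Subgroup.orderOf_dvd_natCard _ hgY)) ?_
    rw [← Nat.card_zpowers]
    exact card_le_of_le fun z hz => hgen z hz
  obtain ⟨m, hm⟩ := h3
  have hm0 : m ≠ 0 := fun h0 => by
    rw [h0, mul_zero] at hm
    exact Nat.card_pos.ne' hm
  set y3 := g ^ m with hy3
  have hy3Y : y3 ∈ d.Y := pow_mem hgY m
  have hy3o : orderOf y3 = 3 := by
    rw [hy3, orderOf_pow_of_dvd hm0 (by rw [hgo, hm]; exact dvd_mul_left m 3), hgo, hm,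
      Nat.mul_div_cancel _ (Nat.pos_of_ne_zero hm0)]
  -- `r` centralises `y3`
  have hry : Commute d.r y3 := by
    obtain ⟨k, hk⟩ := mem_zpowers_iff.1 (hgen _ (d.r_Y g hgY))
    have hrk : d.r * y3 * d.r⁻¹ = y3 ^ k := by
      rw [hy3, ← conj_pow, ← hk, ← zpow_natCast, ← zpow_natCast, ← zpow_mul, ← zpow_mul, mul_comm]
    have h3' : y3 ^ (3 : ℤ) = 1 := by
      rw [show (3 : ℤ) = ((3 : ℕ) : ℤ) from rfl, zpow_natCast, ← hy3o, pow_orderOf_eq_one]
    rw [← Int.emod_add_mul_ediv k 3, zpow_add, zpow_mul, h3', one_zpow, mul_one] at hrk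
    have hy31 : y3 ≠ 1 := fun h0 => by rw [h0, orderOf_one] at hy3o; omega
    rcases (show k % 3 = 0 ∨ k % 3 = 1 ∨ k % 3 = 2 by omega) with h0 | h0 | h0 <;> rw [h0] at hrk
    · rw [zpow_zero] at hrk
      exact absurd (conj_eq_one_iff.1 hrk) hy31
    · rw [zpow_one] at hrk
      exact mul_inv_eq_iff_eq_mul.1 hrk
    · exfalso
      have e2 : ∀ j : ℕ, d.r ^ j * y3 * (d.r ^ j)⁻¹ = y3 ^ (2 ^ j) := by
        intro j
        induction j with
        | zero => simp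
        | succ j ih =>
          rw [show d.r ^ (j + 1) * y3 * (d.r ^ (j + 1))⁻¹ =
            d.r * (d.r ^ j * y3 * (d.r ^ j)⁻¹) * d.r⁻¹ by rw [pow_succ']; group, ih, ← conj_pow,
            hrk, show ((2 : ℤ)) = ((2 : ℕ) : ℤ) from rfl, zpow_natCast, ← pow_mul, pow_succ']
      have e3 := e2 3
      rw [r_cube d, one_mul, inv_one, mul_one, ← pow_mod_orderOf, hy3o] at e3
      have h' : y3 * y3 = y3 := by rw [← pow_two]; exact e3.symm
      exact hy31 (mul_eq_left.1 h')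
  set u := h⁻¹ * y3 * h with hu
  have huy : Commute u y := by
    refine mul_inv_eq_iff_eq_mul.1 ?_
    have hy' : y = h⁻¹ * d.r * h := by rw [← hhy]; group
    rw [hy', hu, show h⁻¹ * y3 * h * (h⁻¹ * d.r * h) * (h⁻¹ * y3 * h)⁻¹ =
      h⁻¹ * (y3 * d.r * y3⁻¹) * h by group, hry.symm.eq, mul_inv_cancel_right]
  have htu : t * u * t⁻¹ = u⁻¹ := by
    have ht' : t = h⁻¹ * (t * d.w) * h := by rw [← hht]; group
    conv_lhs => rw [ht', hu]
    rw [show h⁻¹ * (t * d.w) * h * (h⁻¹ * y3 * h) * (h⁻¹ * (t * d.w) * h)⁻¹ =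
      h⁻¹ * (t * d.w * y3 * (t * d.w)⁻¹) * h by group, tw_inv d hy3Y, hu]
    group
  have h1 := hA u huy t (t_mem_V d)
  have h2 : u * u * t ∈ d.V := by
    have e : t * u⁻¹ = u * t := by
      have := congrArg (fun x => x⁻¹) htu
      simp only [mul_inv_rev, inv_inv] at this
      rw [← mul_inv_eq_iff_eq_mul, mul_assoc]
      exact this
    rw [show u * u * t = u * (u * t) by group, ← e, ← mul_assoc]
    exact h1
  have h3' : u * u ∈ d.V := by
    have := mul_mem h2 (t_mem_V d)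
    rwa [mul_assoc, c.sq, mul_one] at this
  have h4 : u * u * (u * u) = 1 := by
    rcases (mem_V d).1 h3' with e | e | e | e <;> rw [e]
    · exact mul_one 1
    · exact c.sq
    · exact s_sq d
    · rw [(ts_comm d).symm.mul_mul_mul_comm, c.sq, s_sq d, one_mul]
  have hu3 : orderOf u = 3 := by
    rw [hu, show h⁻¹ * y3 * h = MulAut.conj h⁻¹ y3 by simp [MulAut.conj_apply],
      MulEquiv.orderOf_eq, hy3o]
  have : orderOf u ∣ 4 := orderOf_dvd_of_pow_eq_one (by rw [← h4]; simp only [pow_succ, pow_zero, one_mul, mul_assoc])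
  rw [hu3] at this
  omega

/-- In the `A₅` case the torus has order three. -/
theorem card_eq_three (h3 : 3 ∣ Nat.card ↥d.Y) {h y : G} (hhy : h * y * h⁻¹ = d.r)
    (hht : h * t * h⁻¹ = t * d.w) (hrY : ∀ z ∈ d.Y, Commute d.r z)
    (f : (Subgroup.centralizer ({y} : Set G)) →* alternatingGroup (Fin 5))
    (hk : ∀ g, f g = 1 ↔ (g : G) ∈ d.Y) : Nat.card ↥d.Y = 3 := by
  haveI := d.Y_cyc
  obtain ⟨⟨g, hg⟩, hgen⟩ := d.Y_cyc.exists_generator
  have hgo : orderOf g = Nat.card ↥d.Y := by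
    rw [← orderOf_eq_card_of_forall_mem_zpowers hgen, Subgroup.orderOf_mk]
  have hgy : h⁻¹ * g * h ∈ centralizer ({y} : Set G) := by
    refine mem_centralizer_singleton_iff.2 (mul_inv_eq_iff_eq_mul.1 ?_)
    have hy' : y = h⁻¹ * d.r * h := by rw [← hhy]; group
    rw [hy', show h⁻¹ * g * h * (h⁻¹ * d.r * h) * (h⁻¹ * g * h)⁻¹ =
      h⁻¹ * (g * d.r * g⁻¹) * h by group, (hrY g hg).symm.eq, mul_inv_cancel_right]
  set x : ↥(centralizer ({y} : Set G)) := ⟨_, hgy⟩ with hx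
  have hxo : orderOf x = Nat.card ↥d.Y := by
    rw [hx, Subgroup.orderOf_mk, show h⁻¹ * g * h = MulAut.conj h⁻¹ g by simp [MulAut.conj_apply],
      MulEquiv.orderOf_eq, hgo]
  -- `f` is injective on the inverted subgroup
  have hinj : ∀ m : ℕ, f x ^ m = 1 → x ^ m = 1 := by
    intro m hm
    rw [← map_pow] at hm
    have hY : (x : G) ^ m ∈ d.Y := by simpa using (hk _).1 hm
    have htx : t * (x : G) * t⁻¹ = (x : G)⁻¹ := by
      have ht' : t = h⁻¹ * (t * d.w) * h := by rw [← hht]; group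
      conv_lhs => rw [ht']
      show h⁻¹ * (t * d.w) * h * (h⁻¹ * g * h) * (h⁻¹ * (t * d.w) * h)⁻¹ = (h⁻¹ * g * h)⁻¹
      rw [show h⁻¹ * (t * d.w) * h * (h⁻¹ * g * h) * (h⁻¹ * (t * d.w) * h)⁻¹ =
        h⁻¹ * (t * d.w * g * (t * d.w)⁻¹) * h by group, tw_inv d hg]
      group
    have hfix : t * (x : G) ^ m * t⁻¹ = (x : G) ^ m := by
      rw [(t_y d hY).eq, mul_inv_cancel_right]
    rw [← conj_pow, htx, inv_pow] at hfix
    exact Subtype.ext (by simpa using eq_one_of_inv_eq (odd_order_Y d hY) hfix)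
  have hord : orderOf x ∣ 3 ∨ orderOf x ∣ 5 := by
    rcases alt_orders (f x) with e | e | e
    · have h2 : x ^ 2 = 1 := hinj 2 (by rw [pow_two, e])
      have := orderOf_dvd_of_pow_eq_one h2
      rw [hxo] at this
      have := Nat.le_of_dvd two_pos this
      have := Nat.le_of_dvd Nat.card_pos h3
      omega
    · exact Or.inl (orderOf_dvd_of_pow_eq_one (hinj 3 (by rw [pow_succ, pow_two, e])))
    · exact Or.inr (orderOf_dvd_of_pow_eq_one (hinj 5 (by
        rw [← e]; simp only [pow_succ, pow_zero, one_mul])))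
  rw [hxo] at hord
  rcases hord with h' | h'
  · rcases (Nat.dvd_prime Nat.prime_three).1 h' with h1 | h1
    · omega
    · exact h1
  · rcases (Nat.dvd_prime Nat.prime_five).1 h' with h1 | h1 <;> omega

/-- The contradiction in the order three case. -/
theorem false_of_three (hab : ∀ P : Sylow 2 G, ∀ a b : P, a * b = b * a) (hcc : CentCases d)
    (hn : Nat.card ↥d.Y = 3) {h y : G} (hy : y ∈ d.Y) (hyo : orderOf y = 3)
    (hhy : h * y * h⁻¹ = d.r) (hrY : ∀ z ∈ d.Y, Commute d.r z)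
    (f : (Subgroup.centralizer ({y} : Set G)) →* alternatingGroup (Fin 5))
    (hf : Function.Surjective f) (hk : ∀ g, f g = 1 ↔ (g : G) ∈ d.Y)
    (hcY : ∀ g, Commute g y → ∀ z ∈ d.Y, Commute g z)
    (hz : ∀ g : Subgroup.centralizer ({y} : Set G),
      (t * d.w) * (g : G) * (t * d.w)⁻¹ * (g : G)⁻¹ ∈ d.Y) : False := by
  haveI : Fact (Nat.Prime 3) := ⟨Nat.prime_three⟩
  set z := t * d.w with hzd
  have hzz : z * z = 1 := tw_sq d
  have hzi : z⁻¹ = z := inv_eq_of_mul_eq_one_right hzz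
  have hy1 : y ≠ 1 := fun h0 => by rw [h0, orderOf_one] at hyo; omega
  have hY3 : ∀ a ∈ d.Y, a * a * a = 1 := fun a ha => by
    have h' : a ^ Nat.card ↥d.Y = 1 := orderOf_dvd_iff_pow_eq_one.1 (Subgroup.orderOf_dvd_natCard _ ha)
    rwa [hn, pow_succ, pow_two] at h'
  have hYgen : ∀ a ∈ d.Y, a ∈ zpowers y := by
    intro a ha
    have he : zpowers y = d.Y := eq_of_le_of_card_ge (zpowers_le.2 hy)
      (by rw [Nat.card_zpowers, hyo, hn])
    rw [he]; exact ha
  have hrC : d.r ∈ (centralizer ({y} : Set G)) := mem_centralizer_singleton_iff.2 (hrY y hy).eq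
  -- an involution of `C` inverting `r`
  set x := f ⟨d.r, hrC⟩ with hxd
  have hx3 : x * x * x = 1 := by
    rw [hxd, ← map_mul, ← map_mul, ← map_one f]
    exact congrArg f (Subtype.ext (show d.r * d.r * d.r = 1 by rw [← pow_two, ← pow_succ, r_cube d]))
  have hx1 : x ≠ 1 := fun h0 => r_not_mem d ((hk ⟨d.r, hrC⟩).1 h0)
  obtain ⟨a, ha2, hax⟩ := alt_invert x hx3
  obtain ⟨u0, hu0⟩ := hf a
  set u := (u0 : G) * (u0 : G) * (u0 : G) with hud
  have huC : u ∈ (centralizer ({y} : Set G)) := mul_mem (mul_mem u0.2 u0.2) u0.2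
  have hfu : f ⟨u, huC⟩ = a := by
    rw [show (⟨u, huC⟩ : ↥(centralizer ({y} : Set G))) = u0 * u0 * u0 from rfl, map_mul, map_mul, hu0, ha2, one_mul]
  have hu0Y : (u0 : G) * (u0 : G) ∈ d.Y := (hk (u0 * u0)).1 (by rw [map_mul, hu0, ha2])
  have huu : u * u = 1 := by
    rw [← hY3 _ hu0Y, hud]; group
  have huY : ∀ a ∈ d.Y, Commute u a := hcY u (mem_centralizer_singleton_iff.1 huC)
  have hu1 : u ≠ 1 := by
    intro h0
    have ha1 : a = 1 := by
      rw [← hfu, show (⟨u, huC⟩ : ↥(centralizer ({y} : Set G))) = 1 from Subtype.ext h0, map_one]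
    rw [ha1, one_mul, inv_one, mul_one] at hax
    have h' : x * x = 1 := by nth_rw 1 [hax]; exact inv_mul_cancel x
    rw [h', one_mul] at hx3
    exact hx1 hx3
  have hzu : Commute z u := by
    have he : z * u * z⁻¹ * u⁻¹ ∈ d.Y := hz ⟨u, huC⟩
    set e := z * u * z⁻¹ * u⁻¹ with hed
    have h' : z * u * z⁻¹ = e * u := by rw [hed]; group
    have h'' : e * u * (e * u) = 1 := by
      rw [← h', show z * u * z⁻¹ * (z * u * z⁻¹) = z * (u * u) * z⁻¹ by group, huu, mul_one,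
        mul_inv_cancel]
    rw [(huY e he).mul_mul_mul_comm, huu, mul_one] at h''
    have he1 : e = 1 := eq_one_of_inv_eq (odd_order_Y d he) (inv_eq_of_mul_eq_one_right h'')
    rw [he1, one_mul] at h'
    exact mul_inv_eq_iff_eq_mul.1 h'
  have hzr : Commute z d.r := d.r_tw.symm
  have hur : u * d.r * u⁻¹ = d.r⁻¹ := by
    have hi : u * d.r * u⁻¹ * d.r ∈ d.Y := (hk (⟨u, huC⟩ * ⟨d.r, hrC⟩ * ⟨u, huC⟩⁻¹ * ⟨d.r, hrC⟩)).1 (by
      rw [map_mul, map_mul, map_mul, map_inv, hfu, ← hxd, hax, inv_mul_cancel])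
    have h' := tw_inv d hi
    rw [← hzd, (((hzu.mul_right hzr).mul_right hzu.inv_right).mul_right hzr).eq,
      mul_inv_cancel_right] at h'
    have := eq_one_of_inv_eq (odd_order_Y d hi) h'.symm
    exact eq_inv_of_mul_eq_one_left this
  -- the subgroup `E = Y × ⟨r⟩`
  let ψ : ↥d.Y × ↥(zpowers d.r) →* G := MonoidHom.noncommCoprod d.Y.subtype (zpowers d.r).subtype
    (fun a b => by
      obtain ⟨k, hk'⟩ := mem_zpowers_iff.1 b.2
      show Commute (a : G) (b : G)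
      rw [← hk']
      exact (hrY a a.2).symm.zpow_right k)
  have hψ : Function.Injective ψ := by
    rw [injective_iff_map_eq_one]
    rintro ⟨⟨a, ha⟩, ⟨b, hb⟩⟩ h0
    have h0' : a * b = 1 := h0
    have hb1 : b = 1 := by
      have hbY : b ∈ d.Y := by
        rw [eq_inv_of_mul_eq_one_right h0']; exact inv_mem ha
      by_contra hb1
      have hle : zpowers b = zpowers d.r := by
        refine eq_of_le_of_card_ge (zpowers_le.2 hb) ?_
        rw [Nat.card_zpowers, Nat.card_zpowers, d.r_ord]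
        have hbo : orderOf b ∣ 3 := d.r_ord ▸ Nat.card_zpowers d.r ▸ Subgroup.orderOf_dvd_natCard _ hb
        rcases (Nat.dvd_prime Nat.prime_three).1 hbo with e | e
        · exact absurd (orderOf_eq_one_iff.1 e) hb1
        · omega
      exact r_not_mem d ((zpowers_le.2 hbY) (hle.symm ▸ mem_zpowers d.r))
    rw [hb1, mul_one] at h0'
    exact Prod.ext (Subtype.ext h0') (Subtype.ext hb1)
  set E := ψ.range with hE
  have hEmem : ∀ g, g ∈ E ↔ ∃ a ∈ d.Y, ∃ b ∈ zpowers d.r, g = a * b := fun g => by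
    constructor
    · rintro ⟨⟨⟨a, ha⟩, ⟨b, hb⟩⟩, rfl⟩; exact ⟨a, ha, b, hb, rfl⟩
    · rintro ⟨a, ha, b, hb, rfl⟩; exact ⟨(⟨a, ha⟩, ⟨b, hb⟩), rfl⟩
  have hEcard : Nat.card ↥E = 9 := by
    rw [hE, ← Nat.card_congr (MonoidHom.ofInjective hψ).toEquiv, Nat.card_prod, hn,
      Nat.card_zpowers, d.r_ord]
  have hrE : d.r ∈ E := (hEmem _).2 ⟨1, one_mem _, d.r, mem_zpowers _, (one_mul _).symm⟩
  have hYE : ∀ a ∈ d.Y, a ∈ E := fun a ha => (hEmem _).2 ⟨a, ha, 1, one_mem _, (mul_one _).symm⟩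
  have hEcomm : ∀ e ∈ E, ∀ a ∈ d.Y, Commute e a := by
    intro e he a ha
    obtain ⟨a', ha', b, hb, rfl⟩ := (hEmem e).1 he
    obtain ⟨k, rfl⟩ := mem_zpowers_iff.1 hb
    refine Commute.mul_left ?_ ((hrY a ha).zpow_left k)
    obtain ⟨i, rfl⟩ := mem_zpowers_iff.1 (hYgen a ha)
    obtain ⟨i', rfl⟩ := mem_zpowers_iff.1 (hYgen a' ha')
    exact (Commute.refl y).zpow_zpow i' i
  have hEr : ∀ e ∈ E, Commute e d.r := by
    intro e he
    obtain ⟨a', ha', b, hb, rfl⟩ := (hEmem e).1 he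
    obtain ⟨k, rfl⟩ := mem_zpowers_iff.1 hb
    exact (hrY a' ha').symm.mul_left ((Commute.refl d.r).zpow_left k)
  have hinE : ∀ g, Commute g y → Commute g d.r → g ∈ E := fun g hgy hgr => by
    obtain ⟨a', ha', j, rfl⟩ := inE_of_commute d hcc hrY hy hy1 hgy hgr
    exact (hEmem _).2 ⟨a', ha', _, pow_mem (mem_zpowers _) j, rfl⟩
  -- the Sylow 3-subgroups of `C(r)`
  set D := centralizer ({d.r} : Set G) with hD
  have hCcard : Nat.card ↥(centralizer ({y} : Set G)) = 3 * 60 := by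
    have h' := f.ker.card_mul_index
    have hker : Nat.card ↥f.ker = 3 := by
      rw [← hn]
      exact Nat.card_congr
        { toFun := fun g => ⟨(g : G), (hk g.1).1 g.2⟩
          invFun := fun a => ⟨⟨a, mem_centralizer_singleton_iff.2 (hEcomm _ (hYE _ a.2) y hy).eq⟩,
            (hk _).2 a.2⟩
          left_inv := fun g => rfl
          right_inv := fun a => rfl }
    rw [hker, Subgroup.index_ker, MonoidHom.range_eq_top.2 hf, Subgroup.card_top, alt_card] at h'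
    exact h'.symm
  have hDC : D = (centralizer ({y} : Set G)).map (MulAut.conj h).toMonoidHom := by
    ext g
    constructor
    · intro hg
      refine ⟨h⁻¹ * g * h, mem_centralizer_singleton_iff.2 (mul_inv_eq_iff_eq_mul.1 ?_), by
        show h * (h⁻¹ * g * h) * h⁻¹ = g
        group⟩
      have hgr : g * d.r = d.r * g := mem_centralizer_singleton_iff.1 hg
      have hy' : y = h⁻¹ * d.r * h := by rw [← hhy]; group
      rw [hy', show h⁻¹ * g * h * (h⁻¹ * d.r * h) * (h⁻¹ * g * h)⁻¹ =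
        h⁻¹ * (g * d.r * g⁻¹) * h by group, hgr, mul_inv_cancel_right]
    · rintro ⟨g, hg, rfl⟩
      refine mem_centralizer_singleton_iff.2 (mul_inv_eq_iff_eq_mul.1 ?_)
      have hgy : g * y = y * g := mem_centralizer_singleton_iff.1 hg
      show h * g * h⁻¹ * d.r * (h * g * h⁻¹)⁻¹ = d.r
      rw [← hhy, show h * g * h⁻¹ * (h * y * h⁻¹) * (h * g * h⁻¹)⁻¹ = h * (g * y * g⁻¹) * h⁻¹ by
        group, hgy, mul_inv_cancel_right]
  have hDcard : Nat.card ↥D = 180 := by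
    rw [hDC, card_map_of_injective (MulAut.conj h).injective, hCcard]
  have hED : E ≤ D := fun e he => mem_centralizer_singleton_iff.2 (hEr e he).eq
  have hEp : IsPGroup 3 ↥E := IsPGroup.of_card (n := 2) (by rw [hEcard]; norm_num)
  have hidx : ∀ Q : Subgroup G, Q ≤ D → Nat.card ↥Q = 9 → ¬ 3 ∣ (Q.subgroupOf D).index := by
    intro Q hQ hQc
    have h' := (Q.subgroupOf D).card_mul_index
    rw [Nat.card_congr (subgroupOfEquivOfLe hQ).toEquiv, hQc, hDcard] at h'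
    intro hd
    omega
  let P : Sylow 3 ↥D :=
    (hEp.of_equiv (subgroupOfEquivOfLe hED).symm).toSylow (hidx E hED hEcard)
  set E' := E.map (MulAut.conj h).toMonoidHom with hE'
  have hE'D : E' ≤ D := by
    rw [hDC]
    exact Subgroup.map_mono fun e he => mem_centralizer_singleton_iff.2 (hEcomm e he y hy).eq
  let P' : Sylow 3 ↥D :=
    ((hEp.map (MulAut.conj h).toMonoidHom).of_equiv (subgroupOfEquivOfLe hE'D).symm).toSylow
      (hidx E' hE'D (by rw [hE', card_map_of_injective (MulAut.conj h).injective, hEcard]))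
  obtain ⟨e, he⟩ := MulAction.exists_smul_eq ↥D P' P
  set m := (e : G) * h with hm
  have hmy : m * y * m⁻¹ = d.r := by
    rw [show m * y * m⁻¹ = (e : G) * (h * y * h⁻¹) * (e : G)⁻¹ by rw [hm]; group, hhy,
      mem_centralizer_singleton_iff.1 e.2, mul_inv_cancel_right]
  have hmE : ∀ g ∈ E, m * g * m⁻¹ ∈ E := by
    intro g hg
    have h1 : (⟨h * g * h⁻¹, hE'D ⟨g, hg, rfl⟩⟩ : ↥D) ∈ (P' : Subgroup ↥D) :=
      (⟨g, hg, rfl⟩ : h * g * h⁻¹ ∈ E')
    have h2 : e * ⟨h * g * h⁻¹, hE'D ⟨g, hg, rfl⟩⟩ * e⁻¹ ∈ (P : Subgroup ↥D) := by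
      rw [← he, Sylow.coe_subgroup_smul]
      exact ⟨_, h1, rfl⟩
    rw [show m * g * m⁻¹ = (e : G) * (h * g * h⁻¹) * (e : G)⁻¹ by rw [hm]; group]
    exact h2
  -- the image of `r`
  obtain ⟨a', ha', b', hb', hab'⟩ := (hEmem _).1 (hmE d.r hrE)
  have ha'1 : a' ≠ 1 := by
    intro h0
    rw [h0, one_mul] at hab'
    obtain ⟨k, hk'⟩ := mem_zpowers_iff.1 hb'
    rw [← hab'] at hk'
    nth_rw 1 [← hmy] at hk'
    rw [conj_zpow] at hk'
    have hk'' : y ^ k = d.r := mul_left_cancel (mul_right_cancel hk')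
    exact r_not_mem d (hk'' ▸ zpow_mem hy k)
  have hgen' : ∀ g, Commute g a' → Commute g y := by
    intro g hg
    have he : zpowers a' = d.Y := eq_of_le_of_card_ge (zpowers_le.2 ha') (by
      rw [hn, Nat.card_zpowers]
      have : orderOf a' ∣ 3 := hn ▸ Subgroup.orderOf_dvd_natCard _ ha'
      rcases (Nat.dvd_prime Nat.prime_three).1 this with h' | h'
      · exact absurd (orderOf_eq_one_iff.1 h') ha'1
      · omega)
    obtain ⟨k, hk'⟩ := mem_zpowers_iff.1 (he.symm ▸ hy : y ∈ zpowers a')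
    exact hk' ▸ hg.zpow_right k
  set u2 := m * u * m⁻¹ with hu2
  have hu2r : Commute u2 d.r := by
    refine mul_inv_eq_iff_eq_mul.1 ?_
    rw [← hmy, hu2, show m * u * m⁻¹ * (m * y * m⁻¹) * (m * u * m⁻¹)⁻¹ =
      m * (u * y * u⁻¹) * m⁻¹ by group, (huY y hy).eq, mul_inv_cancel_right]
  have hu2i : u2 * (a' * b') * u2⁻¹ = (a' * b')⁻¹ := by
    rw [← hab', hu2, show m * u * m⁻¹ * (m * d.r * m⁻¹) * (m * u * m⁻¹)⁻¹ =
      m * (u * d.r * u⁻¹) * m⁻¹ by group, hur]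
    group
  have hu2b : Commute u2 b' := by
    obtain ⟨k, rfl⟩ := mem_zpowers_iff.1 hb'
    exact hu2r.zpow_right k
  have hab'c : Commute a' b' := by
    obtain ⟨k, rfl⟩ := mem_zpowers_iff.1 hb'
    exact (hrY a' ha').symm.zpow_right k
  have hb3 : b' * b' * b' = 1 := by
    obtain ⟨k, rfl⟩ := mem_zpowers_iff.1 hb'
    rw [← zpow_add, ← zpow_add, show k + k + k = (3 : ℤ) * k by ring, zpow_mul,
      show (3 : ℤ) = ((3 : ℕ) : ℤ) from rfl, zpow_natCast, r_cube d, one_zpow]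
  have hu2a : u2 * a' * u2⁻¹ = a'⁻¹ * b' := by
    have hb2 : b'⁻¹ * b'⁻¹ = b' := by
      calc b'⁻¹ * b'⁻¹ = b'⁻¹ * b'⁻¹ * (b' * b' * b') := by rw [hb3, mul_one]
        _ = b' := by group
    calc u2 * a' * u2⁻¹ = u2 * (a' * b') * u2⁻¹ * (u2 * b' * u2⁻¹)⁻¹ := by group
      _ = a'⁻¹ * b' := by
        rw [hu2i, hu2b.eq, mul_inv_cancel_right, mul_inv_rev, hab'c.inv_inv.symm.eq, mul_assoc, hb2]
  have hzb : Commute z b' := by
    obtain ⟨k, rfl⟩ := mem_zpowers_iff.1 hb'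
    exact hzr.zpow_right k
  set m' := z * u2 with hm'
  have hm'r : Commute m' d.r := hzr.mul_left hu2r
  have hm'a : m' * a' * m'⁻¹ = a' * b' := by
    rw [hm', show z * u2 * a' * (z * u2)⁻¹ = z * (u2 * a' * u2⁻¹) * z⁻¹ by group, hu2a,
      show z * (a'⁻¹ * b') * z⁻¹ = (z * a' * z⁻¹)⁻¹ * (z * b' * z⁻¹) by group, tw_inv d ha',
      inv_inv, hzb.eq, mul_inv_cancel_right]
  have hm'b : Commute m' b' := hzb.mul_left hu2b
  have hm'3 : m' * m' * m' ∈ E := by
    refine hinE _ (hgen' _ (mul_inv_eq_iff_eq_mul.1 ?_)) ((hm'r.mul_left hm'r).mul_left hm'r)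
    have hb : m' * b' * m'⁻¹ = b' := by rw [hm'b.eq, mul_inv_cancel_right]
    calc m' * m' * m' * a' * (m' * m' * m')⁻¹ = m' * (m' * (m' * a' * m'⁻¹) * m'⁻¹) * m'⁻¹ := by
          group
      _ = m' * (m' * (a' * b') * m'⁻¹) * m'⁻¹ := by rw [hm'a]
      _ = m' * (m' * a' * m'⁻¹ * (m' * b' * m'⁻¹)) * m'⁻¹ := by group
      _ = m' * (a' * b' * b') * m'⁻¹ := by rw [hm'a, hb]
      _ = m' * a' * m'⁻¹ * (m' * b' * m'⁻¹) * (m' * b' * m'⁻¹) := by group
      _ = a' * b' * b' * b' := by rw [hm'a, hb]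
      _ = a' := by rw [mul_assoc, mul_assoc, ← mul_assoc b', hb3, mul_one]
  have hm'E : m' ∈ E := by
    have hp : IsPGroup 3 ↥(zpowers m') := by
      have h9 : m' ^ 9 = 1 := by
        have h' : (m' * m' * m') ^ 3 = 1 := by
          obtain ⟨a1, ha1, b1, hb1, he1⟩ := (hEmem _).1 hm'3
          obtain ⟨k, rfl⟩ := mem_zpowers_iff.1 hb1
          rw [he1, ((hrY a1 ha1).symm.zpow_right k).mul_pow, pow_succ, pow_two, hY3 a1 ha1,
            one_mul, ← zpow_natCast, ← zpow_mul, mul_comm, zpow_mul, zpow_natCast, r_cube d,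
            one_zpow]
        rw [← h']; simp only [pow_succ, pow_zero, one_mul, mul_assoc]
      obtain ⟨l, -, hl⟩ := (Nat.dvd_prime_pow Nat.prime_three).1
        (show orderOf m' ∣ 3 ^ 2 from orderOf_dvd_of_pow_eq_one (by norm_num; exact h9))
      exact IsPGroup.of_card (n := l) (by rw [Nat.card_zpowers, hl])
    have hm'D : m' ∈ D := mem_centralizer_singleton_iff.2 hm'r.eq
    have hnorm : (⟨m', hm'D⟩ : ↥D) ∈ normalizer ((P : Subgroup ↥D) : Set ↥D) := by
      refine Subgroup.mem_normalizer_fintype ?_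
      rintro ⟨g, hgD⟩ (hg : g ∈ E)
      show m' * g * m'⁻¹ ∈ E
      obtain ⟨a1, ha1, b1, hb1, rfl⟩ := (hEmem g).1 hg
      have hYa : a1 ∈ zpowers a' := by
        have he : zpowers a' = d.Y := eq_of_le_of_card_ge (zpowers_le.2 ha') (by
          rw [hn, Nat.card_zpowers]
          have : orderOf a' ∣ 3 := hn ▸ Subgroup.orderOf_dvd_natCard _ ha'
          rcases (Nat.dvd_prime Nat.prime_three).1 this with h' | h'
          · exact absurd (orderOf_eq_one_iff.1 h') ha'1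
          · omega)
        exact he.symm ▸ ha1
      obtain ⟨i, rfl⟩ := mem_zpowers_iff.1 hYa
      obtain ⟨k, rfl⟩ := mem_zpowers_iff.1 hb1
      rw [show m' * (a' ^ i * d.r ^ k) * m'⁻¹ =
        (m' * a' ^ i * m'⁻¹) * (m' * d.r ^ k * m'⁻¹) by group, ← conj_zpow, hm'a,
        (hm'r.zpow_right k).eq, mul_inv_cancel_right]
      exact mul_mem (zpow_mem (mul_mem (hYE _ ha')
        ((hEmem _).2 ⟨1, one_mem _, b', hb', (one_mul _).symm⟩)) i) (zpow_mem hrE k)
    have hle : zpowers (⟨m', hm'D⟩ : ↥D) ≤ (P : Subgroup ↥D) := by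
      have hp' : IsPGroup 3 ↥(zpowers (⟨m', hm'D⟩ : ↥D)) := by
        obtain ⟨l, hl⟩ := IsPGroup.iff_card.1 hp
        exact IsPGroup.of_card (n := l)
          (by rw [Nat.card_zpowers, Subgroup.orderOf_mk, ← Nat.card_zpowers, hl])
      have h' := hp'.inf_normalizer_sylow P
      exact ((le_inf le_rfl (zpowers_le.2 hnorm)).trans h'.le).trans inf_le_right
    exact hle (mem_zpowers _)
  have hb'1 : b' = 1 := by
    have h' := hm'a
    rw [(hEcomm m' hm'E a' ha').eq, mul_inv_cancel_right] at h'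
    exact left_eq_mul.1 h'
  rw [hb'1, mul_one] at hab' hu2a
  -- two commuting involutions are interchanged
  set z2 := m * z * m⁻¹ with hz2
  have hz2a : Commute z2 a' := by
    refine mul_inv_eq_iff_eq_mul.1 ?_
    rw [← hab', hz2, show m * z * m⁻¹ * (m * d.r * m⁻¹) * (m * z * m⁻¹)⁻¹ =
      m * (z * d.r * z⁻¹) * m⁻¹ by group, hzr.eq, mul_inv_cancel_right]
  have hz2r : z2 * d.r * z2⁻¹ = d.r⁻¹ := by
    rw [← hmy, hz2, show m * z * m⁻¹ * (m * y * m⁻¹) * (m * z * m⁻¹)⁻¹ =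
      m * (z * y * z⁻¹) * m⁻¹ by group, tw_inv d hy]
    group
  have hui : u⁻¹ = u := inv_eq_of_mul_eq_one_right huu
  have he1 : z2 * u ∈ E := by
    refine hinE _ ((hgen' _ hz2a).mul_left (huY y hy)) (mul_inv_eq_iff_eq_mul.1 ?_)
    rw [show z2 * u * d.r * (z2 * u)⁻¹ = z2 * (u * d.r * u⁻¹) * z2⁻¹ by group, hur,
      show z2 * d.r⁻¹ * z2⁻¹ = (z2 * d.r * z2⁻¹)⁻¹ by group, hz2r, inv_inv]
  have he2 : u2 * z ∈ E := by
    refine hinE _ (hgen' _ (mul_inv_eq_iff_eq_mul.1 ?_)) (hu2r.mul_left hzr)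
    rw [show u2 * z * a' * (u2 * z)⁻¹ = u2 * (z * a' * z⁻¹) * u2⁻¹ by group, tw_inv d ha',
      show u2 * a'⁻¹ * u2⁻¹ = (u2 * a' * u2⁻¹)⁻¹ by group, hu2a, inv_inv]
  -- `z2 * u` is a power of `r`
  set e1 := z2 * u with he1d
  set e2 := u2 * z with he2d
  have hz2e : z2 = e1 * u := by rw [he1d, mul_assoc, huu, mul_one]
  have hu2e : u2 = e2 * z := by rw [he2d, mul_assoc, hzz, mul_one]
  have hz2sq : z2 * z2 = 1 := by
    rw [hz2, show m * z * m⁻¹ * (m * z * m⁻¹) = m * (z * z) * m⁻¹ by group, hzz, mul_one,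
      mul_inv_cancel]
  have hu2sq : u2 * u2 = 1 := by
    rw [hu2, show m * u * m⁻¹ * (m * u * m⁻¹) = m * (u * u) * m⁻¹ by group, huu, mul_one,
      mul_inv_cancel]
  have hue1 : u * e1 * u⁻¹ = e1⁻¹ := by
    refine eq_inv_of_mul_eq_one_right ?_
    rw [hui, ← hz2sq, hz2e]; group
  have hze2 : z * e2 * z⁻¹ = e2⁻¹ := by
    refine eq_inv_of_mul_eq_one_right ?_
    rw [hzi, ← hu2sq, hu2e]; group
  have he1r : e1 ∈ zpowers d.r := by
    obtain ⟨a1, ha1, b1, hb1, he'⟩ := (hEmem e1).1 he1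
    obtain ⟨k, hk'⟩ := mem_zpowers_iff.1 hb1
    rw [he', show u * (a1 * b1) * u⁻¹ = (u * a1 * u⁻¹) * (u * b1 * u⁻¹) by group, (huY a1 ha1).eq,
      mul_inv_cancel_right, ← hk', ← conj_zpow, hur, inv_zpow, mul_inv_rev,
      ((hrY a1 ha1).symm.zpow_right k).inv_inv.symm.eq] at hue1
    rw [he', eq_one_of_inv_eq (odd_order_Y d ha1) (mul_right_cancel hue1).symm, one_mul]
    exact hb1
  have he2Y : e2 ∈ d.Y := by
    obtain ⟨a1, ha1, b1, hb1, he'⟩ := (hEmem e2).1 he2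
    obtain ⟨k, hk'⟩ := mem_zpowers_iff.1 hb1
    rw [he', show z * (a1 * b1) * z⁻¹ = (z * a1 * z⁻¹) * (z * b1 * z⁻¹) by group, tw_inv d ha1,
      ← hk', (hzr.zpow_right k).eq, mul_inv_cancel_right, mul_inv_rev,
      ((hrY a1 ha1).symm.zpow_right k).inv_inv.symm.eq] at hze2
    have hk1 : d.r ^ k = (d.r ^ k)⁻¹ := mul_left_cancel hze2
    have ho : Odd (orderOf (d.r ^ k)) := by
      have : orderOf (d.r ^ k) ∣ 3 := d.r_ord ▸ orderOf_dvd_of_mem_zpowers ⟨k, rfl⟩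
      exact (show Odd 3 by decide).of_dvd_nat this
    rw [he', ← hk', eq_one_of_inv_eq ho hk1.symm, mul_one]
    exact ha1
  have hze1 : Commute z e1 := by
    obtain ⟨k, hk'⟩ := mem_zpowers_iff.1 he1r
    exact hk' ▸ hzr.zpow_right k
  have hue2 : Commute u e2 := huY e2 he2Y
  have he13 : e1 * e1 * e1 = 1 := by
    obtain ⟨k, hk'⟩ := mem_zpowers_iff.1 he1r
    rw [← hk', ← zpow_add, ← zpow_add, show k + k + k = (3 : ℤ) * k by ring, zpow_mul,
      show (3 : ℤ) = ((3 : ℕ) : ℤ) from rfl, zpow_natCast, r_cube d, one_zpow]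
  have he23 : e2 * e2 * e2 = 1 := hY3 e2 he2Y
  have he12 : Commute e1 e2 := hEcomm e1 he1 e2 he2Y
  set k1 := (e1 * e1) * (e2 * e2) with hk1d
  have hk1u : k1 * u * k1⁻¹ = z2 := by
    rw [hk1d, show e1 * e1 * (e2 * e2) * u * (e1 * e1 * (e2 * e2))⁻¹ =
      e1 * e1 * (e2 * e2 * u * (e2 * e2)⁻¹) * (e1 * e1)⁻¹ by group,
      (hue2.mul_right hue2).symm.eq, mul_inv_cancel_right, hz2e,
      show e1 * e1 * u * (e1 * e1)⁻¹ = e1 * e1 * (u * e1 * u⁻¹)⁻¹ * (u * e1 * u⁻¹)⁻¹ * u by group,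
      hue1, inv_inv, mul_assoc (e1 * e1 * e1), ← mul_assoc, he13, one_mul]
  have hk1z : k1 * z * k1⁻¹ = u2 := by
    rw [hk1d, (show Commute (e1 * e1) (e2 * e2) from
        (he12.mul_right he12).mul_left (he12.mul_right he12)).eq,
      show e2 * e2 * (e1 * e1) * z * (e2 * e2 * (e1 * e1))⁻¹ =
      e2 * e2 * (e1 * e1 * z * (e1 * e1)⁻¹) * (e2 * e2)⁻¹ by group,
      (hze1.mul_right hze1).symm.eq, mul_inv_cancel_right, hu2e,
      show e2 * e2 * z * (e2 * e2)⁻¹ = e2 * e2 * (z * e2 * z⁻¹)⁻¹ * (z * e2 * z⁻¹)⁻¹ * z by group,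
      hze2, inv_inv, mul_assoc (e2 * e2 * e2), ← mul_assoc, he23, one_mul]
  have hsw := Local.not_swap hab (d := k1⁻¹ * m) hzz huu hzu.eq
    (show k1⁻¹ * m * z * (k1⁻¹ * m)⁻¹ = u by
      rw [show k1⁻¹ * m * z * (k1⁻¹ * m)⁻¹ = k1⁻¹ * (m * z * m⁻¹) * k1 by group, ← hz2, ← hk1u]
      group)
    (show k1⁻¹ * m * u * (k1⁻¹ * m)⁻¹ = z by
      rw [show k1⁻¹ * m * u * (k1⁻¹ * m)⁻¹ = k1⁻¹ * (m * u * m⁻¹) * k1 by group, ← hu2, ← hk1z]
      group)
  have hyy := tw_inv d hy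
  rw [← hzd, hsw, (huY y hy).eq, mul_inv_cancel_right] at hyy
  exact hy1 (eq_one_of_inv_eq (odd_order_Y d hy) hyy.symm)

/-- Three does not divide `|Y|`. -/
theorem three_not_dvd_of (hab : ∀ P : Sylow 2 G, ∀ a b : P, a * b = b * a)
    (h8 : Fintype.card F % 8 = 3 ∨ Fintype.card F % 8 = 5) (hcc : CentCases d) :
    ¬ 3 ∣ Nat.card ↥d.Y := by
  intro h3
  obtain ⟨h, y, hy, hyo, hhy, hht⟩ := exists_transport d h8 h3
  have hy1 : y ≠ 1 := fun h0 => by rw [h0, orderOf_one] at hyo; omega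
  rcases hcc y hy hy1 with hA | ⟨hrY, hcY, f, hf, hk, hz⟩
  · exact not_normalises d h3 hhy hht hA
  · exact false_of_three d hab hcc (card_eq_three d h3 hhy hht hrY f hk) hy hyo hhy hrY f hf hk hcY hz

end Cfsg.Agent.Lib.JankoThompson.TorusBound
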